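import Cfsg.Agent.H418.KB.Min

/-!
# S4822, classical rows: commuting elements of order `p` (helper418)

`core`: a group `G` of isometries closed under splitting with noncyclic Sylow `p`-subgroups contains commuting elements `x`, `y` of order
`p`, `y` trivial on `[V, x]`, such that `x ~ xⁱ` only for `i = ± qʲ` and the `p`-subgroups of `G` trivial on `[V, x]` are cyclic.
-/

set_option autoImplicit false

namespace Cfsg.Agent.H418.KB

open Polynomial Module

section rk

variable {F V : Type*} [Field F] [AddCommGroup V] [Module F V]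

/-- Commuting linear maps `g`, `h` of order dividing `p`, `h` and all `g h^k` without fixed vectors in `W`
(after `H862.T5.OAA.no_rank_two`). -/
theorem no_rank_two {p : ℕ} (hp : p.Prime) (hpF : (p : F) ≠ 0) {g h : V ≃ₗ[F] V} (hg : g ^ p = 1) (hh : h ^ p = 1)
    (hc : g * h = h * g) {W : Submodule F V} (hgW : ∀ v ∈ W, g v ∈ W) (hhW : ∀ v ∈ W, h v ∈ W)
    (h1 : ∀ v ∈ W, h v = v → v = 0) (h2 : ∀ k < p, ∀ v ∈ W, (g * h ^ k) v = v → v = 0) {v : V} (hv : v ∈ W) :
    v = 0 := by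
  have hcomm : Commute g h := hc
  have hpw : ∀ f : V ≃ₗ[F] V, (∀ v ∈ W, f v ∈ W) → ∀ n : ℕ, ∀ v ∈ W, (f ^ n) v ∈ W := by
    intro f hf n
    induction n with
    | zero => exact fun v hv => hv
    | succ n ih =>
      intro v hv
      rw [pow_succ, LinearEquiv.mul_apply]
      exact ih _ (hf v hv)
  -- sum of the powers
  have key : ∀ f : V ≃ₗ[F] V, f ^ p = 1 → ∀ v, f (∑ i ∈ Finset.range p, (f ^ i) v) = ∑ i ∈ Finset.range p, (f ^ i) v := by
    intro f hf v
    rw [map_sum]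
    have h3 : ∀ i, f ((f ^ i) v) = (f ^ (i + 1)) v := fun i => by rw [pow_succ', LinearEquiv.mul_apply]
    simp only [h3]
    have h4 := Finset.sum_range_succ' (fun i => (f ^ i) v) p
    have h5 := Finset.sum_range_succ (fun i => (f ^ i) v) p
    rw [h5, hf, pow_zero] at h4
    exact (add_right_cancel h4).symm
  have hghk : ∀ k : ℕ, ∀ v ∈ W, (g * h ^ k) v ∈ W := by
    intro k v hv
    rw [LinearEquiv.mul_apply]
    exact hgW _ (hpw h hhW k v hv)
  have s1 : ∀ k < p, ∑ i ∈ Finset.range p, ((g * h ^ k) ^ i) v = 0 := by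
    intro k hk
    apply h2 k hk
    · exact W.sum_mem fun i _ => hpw _ (hghk k) i v hv
    apply key
    rw [(hcomm.pow_right k).mul_pow, hg, ← pow_mul, mul_comm, pow_mul, hh, one_pow, one_mul]
  have s2 : ∀ i, 0 < i → i < p → ∑ k ∈ Finset.range p, ((h ^ i) ^ k) v = 0 := by
    intro i hi0 hip
    apply h1
    · exact W.sum_mem fun k _ => hpw _ (hpw h hhW i) k v hv
    have h3 := key (h ^ i) (by rw [← pow_mul, mul_comm, pow_mul, hh, one_pow]) v
    -- `h` is a power of `h ^ i`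
    have hco : Nat.Coprime (orderOf h) i :=
      Nat.Coprime.coprime_dvd_left (orderOf_dvd_of_pow_eq_one hh) (Nat.coprime_of_lt_prime hi0.ne' hip hp)
    obtain ⟨m, hm⟩ := exists_pow_eq_self_of_coprime hco.symm
    have h4 : ∀ n : ℕ, ((h ^ i) ^ n) (∑ k ∈ Finset.range p, ((h ^ i) ^ k) v) = ∑ k ∈ Finset.range p, ((h ^ i) ^ k) v := by
      intro n
      induction n with
      | zero => rfl
      | succ n ih => rw [pow_succ, LinearEquiv.mul_apply, h3, ih]
    have h5 := h4 m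
    rwa [hm] at h5
  have s3 : ∑ k ∈ Finset.range p, ∑ i ∈ Finset.range p, ((g * h ^ k) ^ i) v = 0 :=
    Finset.sum_eq_zero fun k hk => s1 k (Finset.mem_range.1 hk)
  rw [Finset.sum_comm] at s3
  have s4 : ∀ i ∈ Finset.range p, i ≠ 0 → ∑ k ∈ Finset.range p, ((g * h ^ k) ^ i) v = 0 := by
    intro i hi hi0
    have h3 : ∀ k, ((g * h ^ k) ^ i) v = (g ^ i) (((h ^ i) ^ k) v) := by
      intro k
      rw [(hcomm.pow_right k).mul_pow, LinearEquiv.mul_apply, ← pow_mul, ← pow_mul, mul_comm k i]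
    simp only [h3]
    rw [← map_sum, s2 i (Nat.pos_of_ne_zero hi0) (Finset.mem_range.1 hi), map_zero]
  rw [Finset.sum_eq_single 0 s4 (fun h => absurd (Finset.mem_range.2 hp.pos) h)] at s3
  simp only [pow_zero] at s3
  rw [Finset.sum_const, Finset.card_range] at s3
  have s5 : (p : F) • v = 0 := by
    rw [Nat.cast_smul_eq_nsmul]
    exact s3
  exact (smul_eq_zero.1 s5).resolve_left hpF

theorem aeval_X_sub_one (x : V ≃ₗ[F] V) (v : V) : aeval (el x) (X - 1 : F[X]) v = x v - v := by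
  rw [map_sub, aeval_X, map_one]
  rfl

variable [Fintype F]

/-- In a group generated by commuting elements `a`, `b` of order `p` there are `e ≠ 1` and `f` such that `f` is not trivial
on the fixed space of `e`. -/
theorem exists_move {p : ℕ} (hp : p.Prime) (hpq : ¬ p ∣ Fintype.card F) {A : Subgroup (V ≃ₗ[F] V)}
    (hA : ∀ x ∈ A, x ^ p = 1) (hc : ∀ x ∈ A, ∀ y ∈ A, x * y = y * x) {a b : V ≃ₗ[F] V} (ha : a ∈ A) (hb : b ∈ A)
    (ha1 : a ≠ 1) (hab : ∀ i : ℕ, a ≠ b ^ i) (hb1 : b ≠ 1) :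
    ∃ e ∈ A, ∃ f ∈ A, e ≠ 1 ∧ ∃ v, e v = v ∧ f v ≠ v := by
  by_contra hno
  push Not at hno
  have hpF := p_ne (F := F) hp hpq
  -- the commutator space of `a`
  have hfix : ∀ e ∈ A, e ≠ 1 → ∀ v ∈ LinearMap.range (aeval (el a) (X - 1 : F[X])), e v = v → v = 0 := by
    rintro e he he1 _ ⟨w, rfl⟩ hw
    have h1 := hno e he a ha he1 _ hw
    have h2 : aeval (el a) (X - 1 : F[X]) (aeval (el a) (X - 1 : F[X]) w) = 0 := by
      rw [aeval_X_sub_one, sub_eq_zero]
      exact h1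
    exact eq_zero_of_sq (two_le_NN (F := F) hp) (frob hp hpq (hA a ha) _) h2
  have hinv : ∀ e ∈ A, ∀ v ∈ LinearMap.range (aeval (el a) (X - 1 : F[X])), e v ∈ LinearMap.range (aeval (el a) (X - 1 : F[X])) := by
    rintro e he _ ⟨w, rfl⟩
    exact ⟨e w, (comm_aeval (hc e he a ha) _ w).symm⟩
  apply ha1
  ext v
  have h3 : a v - v ∈ LinearMap.range (aeval (el a) (X - 1 : F[X])) := ⟨v, aeval_X_sub_one a v⟩
  rw [one_app, ← sub_eq_zero]
  refine no_rank_two hp hpF (hA a ha) (hA b hb) (hc a ha b hb) (hinv a ha) (hinv b hb) (hfix b hb hb1) ?_ h3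
  intro k hk
  refine hfix _ (A.mul_mem ha (A.pow_mem hb k)) fun h => ?_
  have h4 : a = (b ^ k)⁻¹ := eq_inv_of_mul_eq_one_left h
  apply hab ((p - 1) * k)
  rw [h4, pow_mul', eq_comm]
  have h5 := inv_eq_pow hp (hA _ (A.pow_mem hb k))
  rw [h5]

end rk

section blk

variable {F V : Type*} [Field F] [Fintype F] [AddCommGroup V] [Module F V] {p : ℕ}
  {B : V →ₗ[F] V →ₗ[F] F} {G : Subgroup (V ≃ₗ[F] V)}

theorem bl_pow {x g : V ≃ₗ[F] V} {f : F[X]} (hp : p.Prime) (hpF : ¬ p ∣ Fintype.card F) (hx : x ^ p = 1) (h : g * x = x * g) {n : ℕ} (hn : g ^ n = 1) :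
    (bl hp hpF hx f h) ^ n = 1 := by
  have key : ∀ (m : ℕ) (v : V), ((bl hp hpF hx f h) ^ m) v = (g ^ m) (v - pr p x f v) + pr p x f v := by
    intro m v
    induction m with
    | zero => rw [pow_zero, pow_zero, one_app, one_app, sub_add_cancel]
    | succ m ih =>
      have h1 : g ^ m * x = x * g ^ m := ((show Commute g x from h).pow_left m)
      have h3 : pr p x f (v - pr p x f v) = 0 := by rw [map_sub, pr_pr hp hpF hx, sub_self]
      have h4 : pr p x f ((g ^ m) (v - pr p x f v) + pr p x f v) = pr p x f v := by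
        rw [map_add, ← pr_comm h1, h3, map_zero, zero_add, pr_pr hp hpF hx]
      rw [pow_succ', LinearEquiv.mul_apply, ih, bl_apply, h4, add_sub_cancel_right, pow_succ', LinearEquiv.mul_apply]
  ext v
  rw [key, hn, one_app, one_app, sub_add_cancel]

theorem comm_of_triv (hG : Spl B G) {x a : V ≃ₗ[F] V} (hp : p.Prime) (hpF : ¬ p ∣ Fintype.card F) (hx : x ∈ G)
    (hxp : x ^ p = 1) (ha : a ∈ G) (htr : ∀ v, a (x v - v) = x v - v) : a * x = x * a := by
  -- the fixed space is invariant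
  have h1 : ∀ v, x v = v → x (a v) = a v := by
    intro v hv
    have hv' : x⁻¹ v = v := by
      rw [← hv, ← LinearEquiv.mul_apply, inv_mul_cancel, one_app, hv]
    have h3 : ∀ w, B (x⁻¹ (a v) - a v) w = 0 := by
      intro w
      have e1 : B (x⁻¹ (a v)) w = B (a v) (x w) := by
        rw [← hG.pres x hx (x⁻¹ (a v)) w, ← LinearEquiv.mul_apply, mul_inv_cancel, one_app]
      have e2 : B (a v) (x w - w) = B v (x w - w) := by
        rw [← htr w, hG.pres a ha, htr]
      have e3 : B v (x w) = B v w := by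
        have := hG.pres x hx (x⁻¹ v) w
        rw [← LinearEquiv.mul_apply, mul_inv_cancel, one_app, hv'] at this
        exact this
      rw [map_sub, map_sub, e3, sub_self, sub_eq_zero] at e2
      rw [map_sub, LinearMap.sub_apply, e1, e2, sub_self]
    have h4 := hG.nd _ h3
    rw [sub_eq_zero] at h4
    conv_lhs => rw [← h4]
    rw [← LinearEquiv.mul_apply, mul_inv_cancel, one_app]
  ext v
  have hr : ∀ w, ∃ z, pr p x (X - 1) w = x z - z := by
    intro w
    obtain ⟨z, hz⟩ := range_pr (x := x) (f := X - 1) hp w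
    exact ⟨z, by rw [hz, aeval_X_sub_one]⟩
  obtain ⟨z, hz⟩ := hr v
  have hk : x (v - pr p x (X - 1) v) = v - pr p x (X - 1) v := by
    have := ker_pr (x := x) (f := X - 1) hp hpF hxp v
    rwa [aeval_X_sub_one, sub_eq_zero] at this
  rw [LinearEquiv.mul_apply, LinearEquiv.mul_apply]
  have hv : v = (v - pr p x (X - 1) v) + (x z - z) := by rw [← hz, sub_add_cancel]
  have e1 : x (x z - z) = x (x z) - x z := map_sub _ _ _
  rw [hv]
  generalize v - pr p x (X - 1) v = k at hk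
  rw [map_add x, hk, map_add a, map_add a, map_add x, htr, h1 k hk, e1, htr (x z), ← e1]

end blk

section minimal

variable {F V : Type*} [Field F] [Fintype F] [AddCommGroup V] [Module F V] [FiniteDimensional F V] {p : ℕ} {K : Type*}
  [Field K] [Algebra F K] [FiniteDimensional F K] {ζ : K} {B : V →ₗ[F] V →ₗ[F] F} {G : Subgroup (V ≃ₗ[F] V)}

/-- homogeneous elements of order `p` of `G`, and another element of order `p` trivial on `[V, x]` -/
structure Pair (G : Subgroup (V ≃ₗ[F] V)) (p : ℕ) (ζ : K) (x y : V ≃ₗ[F] V) : Prop where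
  mx : x ∈ G
  my : y ∈ G
  ox : x ^ p = 1
  oy : y ^ p = 1
  nx : x ≠ 1
  ny : y ≠ 1
  hom : Hg p ζ x
  triv : ∀ v, y (x v - v) = x v - v

/-- the fixed space -/
noncomputable def fixs (x : V ≃ₗ[F] V) : Submodule F V := LinearMap.ker (el x - 1)

omit [Fintype F] [FiniteDimensional F V] in
theorem mem_fixs {x : V ≃ₗ[F] V} {v : V} : v ∈ fixs x ↔ x v = v := by
  rw [fixs, LinearMap.mem_ker, LinearMap.sub_apply, Module.End.one_apply, el_apply, sub_eq_zero]

variable (hp : p.Prime) (h2 : 2 < p) (hpF : ¬ p ∣ Fintype.card F) (hζ : IsPrimitiveRoot ζ p)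

omit [FiniteDimensional F V] in
include hp hpF hζ in
/-- the step: an elementary abelian group `A` of order `p²`, trivial on `[V, x]` (or `x = 1`) -/
theorem step (hG : Spl B G) {x : V ≃ₗ[F] V} (hx : x ∈ G) (hxp : x ^ p = 1) (hh : Hg p ζ x)
    {A : Subgroup (V ≃ₗ[F] V)} (hAG : A ≤ G) (hA : ∀ a ∈ A, a ^ p = 1) (hc : ∀ a ∈ A, ∀ b ∈ A, a * b = b * a)
    (htr : ∀ a ∈ A, ∀ v, a (x v - v) = x v - v) {a b : V ≃ₗ[F] V} (ha : a ∈ A) (hb : b ∈ A)
    (ha1 : a ≠ 1) (hab : ∀ i : ℕ, a ≠ b ^ i) (hb1 : b ≠ 1) :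
    ∃ x' y', Pair G p ζ x' y' ∧ fixs x' < fixs x := by
  obtain ⟨e₀, he₀, f, hf, he₀1, w₀, hw₀, hfw₀⟩ := exists_move hp hpF hA hc ha hb ha1 hab hb1
  obtain ⟨i, hi, u, hu0, hu⟩ := eig hp hpF hζ (hA e₀ he₀) he₀1
  obtain ⟨e, he⟩ : ∃ e, e = e₀ ^ i := ⟨_, rfl⟩
  rw [← he] at hu
  have heA : e ∈ A := by rw [he]; exact A.pow_mem he₀ i
  have hep := hA e heA
  have hefix : e w₀ = w₀ := by
    rw [he]
    clear he hu hi
    induction i with
    | zero => rfl
    | succ i ih => rw [pow_succ, LinearEquiv.mul_apply, hw₀, ih]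
  have hfe : f * e = e * f := hc f hf e heA
  have hxe : e * x = x * e := comm_of_triv hG hp hpF hx hxp (hAG heA) (htr e heA)
  -- decompositions
  have decx : ∀ v, ∃ v₀ z, x v₀ = v₀ ∧ v = v₀ + (x z - z) := by
    intro v
    obtain ⟨z, hz⟩ := range_pr (x := x) (f := X - 1) hp v
    have h1 := ker_pr (x := x) (f := X - 1) hp hpF hxp v
    rw [aeval_X_sub_one, sub_eq_zero] at h1
    refine ⟨_, z, h1, ?_⟩
    rw [← aeval_X_sub_one x z, ← hz, sub_add_cancel]
  have hinter : ∀ s z, x s = s → s = x z - z → s = 0 := by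
    intro s z h1 h3
    have h4 : aeval (el x) (X - 1 : F[X]) (aeval (el x) (X - 1 : F[X]) z) = 0 := by
      rw [aeval_X_sub_one x z, ← h3, aeval_X_sub_one, h1, sub_self]
    have h5 := eq_zero_of_sq (two_le_NN (F := F) hp) (frob hp hpF hxp _) h4
    rw [aeval_X_sub_one] at h5
    rw [h3, h5]
  have dece : ∀ v, ∃ k r, aeval (el e) (fz F p ζ) k = 0 ∧ v = k + aeval (el e) (fz F p ζ) r := by
    intro v
    obtain ⟨r, hr⟩ := range_pr (x := e) (f := fz F p ζ) hp v
    exact ⟨_, r, ker_pr (x := e) (f := fz F p ζ) hp hpF hep v, by rw [← hr, sub_add_cancel]⟩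
  -- the element `e'`
  obtain ⟨e', he'⟩ : ∃ e', e' = bl hp hpF hep (fz F p ζ) (rfl : e * e = e * e) := ⟨_, rfl⟩
  have he'k : ∀ k, aeval (el e) (fz F p ζ) k = 0 → e' k = e k := by
    intro k hk
    rw [he']
    exact bl_ker hp hpF hep _ hk
  have he'r : ∀ r, e' (aeval (el e) (fz F p ζ) r) = aeval (el e) (fz F p ζ) r := by
    intro r
    rw [he']
    exact bl_range hp hpF hep _ r
  have he'G : e' ∈ G := by
    rw [he']
    refine bl_mem hp hpF hep _ hG (hAG heA) (hAG heA) ?_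
    intro u hu
    rw [fz_inv hp hep]
    exact hu
  have he'p : e' ^ p = 1 := by
    rw [he']
    exact bl_pow hp hpF hep _ hep
  have hc1 := fz_one (F := F) hp hpF hζ
  have he'fix : ∀ v, e v = v → e' v = v := by
    intro v hv
    have h1 := aeval_fixed (fz F p ζ) hv
    have h3 : v = aeval (el e) (fz F p ζ) (((fz F p ζ).eval 1)⁻¹ • v) := by
      rw [map_smul, h1, smul_smul, inv_mul_cancel₀ hc1, one_smul]
    rw [h3]
    exact he'r _
  have he'd : ∀ v, ∃ k, aeval (el e) (fz F p ζ) k = 0 ∧ e' v - v = e k - k := by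
    intro v
    obtain ⟨k, r, hk, hv⟩ := dece v
    refine ⟨k, hk, ?_⟩
    rw [hv, map_add, he'k k hk, he'r]
    abel
  have hkinv : ∀ k, aeval (el e) (fz F p ζ) k = 0 → aeval (el e) (fz F p ζ) (e k) = 0 := by
    intro k hk
    rw [← self_aeval, hk, map_zero]
  have he'h : Hg p ζ e' := by
    intro v
    obtain ⟨k, hk, hv⟩ := he'd v
    have h1 : aeval (el e) (fz F p ζ) (e k - k) = 0 := by rw [map_sub, hkinv k hk, hk, sub_zero]
    rw [hv]
    have h3 := aeval_congr (x := e') (y := e) (W := LinearMap.ker (aeval (el e) (fz F p ζ))) (fun w hw => he'k w hw)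
      (fun w hw => hkinv w hw) (fz F p ζ) (w := e k - k) h1
    rw [h3, h1]
  have he'triv : ∀ v, e' (x v - v) = x v - v := fun v => he'fix _ (htr e heA v)
  have hxe' : e' * x = x * e' := comm_of_triv hG hp hpF hx hxp he'G he'triv
  have hue : e u ≠ u := by
    intro h
    have h1 := aeval_fixed (fz F p ζ) h
    rw [hu] at h1
    exact smul_ne_zero hc1 hu0 h1.symm
  -- the element `x'`
  have hx'1 : ∀ z, (x * e') (x z - z) = x (x z - z) := by
    intro z
    rw [LinearEquiv.mul_apply, he'triv]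
  have hx'0 : ∀ v, x v = v → (x * e') v = e' v := by
    intro v hv
    rw [← hxe', LinearEquiv.mul_apply, hv]
  have hinv0 : ∀ v, x v = v → x (e' v) = e' v := by
    intro v hv
    rw [← LinearEquiv.mul_apply, ← hxe', LinearEquiv.mul_apply, hv]
  have hx'd : ∀ v, ∃ v₀ z, x v₀ = v₀ ∧ v = v₀ + (x z - z) ∧ (x * e') v - v = (e' v₀ - v₀) + (x (x z - z) - (x z - z)) := by
    intro v
    obtain ⟨v₀, z, h0, hv⟩ := decx v
    refine ⟨v₀, z, h0, hv, ?_⟩
    rw [hv, map_add, hx'0 v₀ h0, hx'1]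
    abel
  have hx'h : Hg p ζ (x * e') := by
    intro v
    obtain ⟨v₀, z, h0, -, hv⟩ := hx'd v
    rw [hv, map_add]
    have h1 : aeval (el (x * e')) (fz F p ζ) (e' v₀ - v₀) = 0 := by
      have h3 := aeval_congr (x := x * e') (y := e') (W := fixs x) (fun w hw => hx'0 w (mem_fixs.1 hw))
        (fun w hw => mem_fixs.2 (hinv0 w (mem_fixs.1 hw))) (fz F p ζ) (w := e' v₀ - v₀)
        (mem_fixs.2 (by rw [map_sub, hinv0 v₀ h0, h0]))
      rw [h3]
      exact he'h v₀
    have h4 : aeval (el (x * e')) (fz F p ζ) (x (x z - z) - (x z - z)) = 0 := by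
      have h3 := aeval_congr (x := x * e') (y := x) (W := LinearMap.range (aeval (el x) (X - 1 : F[X])))
        (by
          rintro _ ⟨w, rfl⟩
          rw [aeval_X_sub_one]
          exact hx'1 w)
        (by
          rintro _ ⟨w, rfl⟩
          exact ⟨x w, (self_aeval x _ w).symm⟩) (fz F p ζ) (w := x (x z - z) - (x z - z))
        ⟨x z - z, aeval_X_sub_one x _⟩
      rw [h3]
      exact hh _
    rw [h1, h4, add_zero]
  have hle : fixs (x * e') ≤ fixs x := by
    intro v hv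
    rw [mem_fixs] at hv ⊢
    obtain ⟨v₀, z, h0, hv1, hv2⟩ := hx'd v
    rw [hv, sub_self] at hv2
    have h1 : x (x z - z) - (x z - z) = -(e' v₀ - v₀) := by
      rw [eq_neg_iff_add_eq_zero, add_comm]
      exact hv2.symm
    have h3 : x (x z - z) - (x z - z) = 0 := by
      refine hinter _ (x z - z) ?_ rfl
      rw [h1, map_neg, map_sub, hinv0 v₀ h0, h0]
    rw [sub_eq_zero] at h3
    have h4 := hinter _ z h3 rfl
    rw [hv1, h4, add_zero]
    exact h0
  have hlt : fixs (x * e') < fixs x := by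
    refine lt_of_le_of_ne hle fun hEq => ?_
    obtain ⟨u₀, z, h0, hu1⟩ := decx u
    have h1 : u₀ ∈ fixs (x * e') := by
      rw [hEq]
      exact mem_fixs.2 h0
    rw [mem_fixs, hx'0 u₀ h0] at h1
    have h3 : e' u = u := by rw [hu1, map_add, h1, he'triv]
    rw [he'k u hu] at h3
    exact hue h3
  -- the element `y'`
  obtain ⟨y', hy'⟩ : ∃ y', y' = bl hp hpF hep (X - 1) hfe := ⟨_, rfl⟩
  have hy'k : ∀ k, e k = k → y' k = f k := by
    intro k hk
    rw [hy']
    refine bl_ker hp hpF hep _ ?_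
    rw [aeval_X_sub_one, hk, sub_self]
  have hy'r : ∀ r, y' (e r - r) = e r - r := by
    intro r
    rw [hy', ← aeval_X_sub_one]
    exact bl_range hp hpF hep _ r
  refine ⟨x * e', y', ⟨G.mul_mem hx he'G, ?_, ?_, ?_, ?_, ?_, hx'h, ?_⟩, hlt⟩
  · rw [hy']
    refine bl_mem hp hpF hep _ hG (hAG heA) (hAG hf) ?_
    intro u hu
    rw [aeval_X_sub_one, sub_eq_zero] at hu ⊢
    rw [← hu, ← LinearEquiv.mul_apply, inv_mul_cancel, one_app, hu]
  · rw [(show Commute x e' from hxe'.symm).mul_pow, hxp, he'p, one_mul]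
  · rw [hy']
    exact bl_pow hp hpF hep _ (hA f hf)
  · intro h
    rw [h] at hlt
    have h1 : fixs (1 : V ≃ₗ[F] V) = ⊤ := by
      rw [eq_top_iff]
      exact fun v _ => mem_fixs.2 rfl
    rw [h1] at hlt
    exact not_top_lt hlt
  · intro h
    have h1 := hy'k w₀ hefix
    rw [h, one_app] at h1
    exact hfw₀ h1.symm
  · intro v
    obtain ⟨v₀, z, h0, -, hv⟩ := hx'd v
    obtain ⟨k, hk, hk2⟩ := he'd v₀
    rw [hv, map_add, hk2, hy'r, hy'k _ (htr e heA _), htr f hf]

include hp h2 hpF hζ in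
/-- the minimal pair -/
theorem exists_min_pair (hG : Spl B G) {R : Subgroup (V ≃ₗ[F] V)} (hRG : R ≤ G) (hR : IsPGroup p R) (hnc : ¬ IsCyclic R) :
    ∃ x y, Pair G p ζ x y ∧ ∀ R : Subgroup (V ≃ₗ[F] V), R ≤ G → IsPGroup p R → (∀ r ∈ R, ∀ v, r (x v - v) = x v - v) →
      IsCyclic R := by
  have : Fact p.Prime := ⟨hp⟩
  have hfin : Finite V := Module.finite_of_finite F
  have hfinL : Finite (V ≃ₗ[F] V) := Finite.of_injective (fun f => (f : V → V)) DFunLike.coe_injective
  -- the step for `p`-groups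
  have hst : ∀ x : V ≃ₗ[F] V, x ∈ G → x ^ p = 1 → Hg p ζ x → ∀ R : Subgroup (V ≃ₗ[F] V), R ≤ G → IsPGroup p R →
      (∀ r ∈ R, ∀ v, r (x v - v) = x v - v) → ¬ IsCyclic R → ∃ x' y', Pair G p ζ x' y' ∧ fixs x' < fixs x := by
    intro x hx hxp hh R hRG hR htr hnc
    obtain ⟨A, -, ⟨hAc, hAp⟩, hAcard⟩ := Cfsg.Agent.S0126.result (by omega) hR hnc
    have hA1 : Nat.card A ≠ 1 := by
      rw [hAcard]
      have := hp.one_lt
      intro h
      rw [Nat.pow_eq_one] at h
      omega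
    obtain ⟨b, hb⟩ : ∃ b : A, b ≠ 1 := by
      by_contra hno
      push Not at hno
      apply hA1
      rw [Nat.card_eq_one_iff_unique]
      exact ⟨⟨fun x y => by rw [hno x, hno y]⟩, ⟨1⟩⟩
    have hbp : b ^ p = 1 := Subtype.ext (hAp b b.2)
    have hbo : orderOf b = p := orderOf_eq_prime hbp hb
    obtain ⟨a, ha⟩ : ∃ a : A, a ∉ Subgroup.zpowers b := by
      by_contra hno
      push Not at hno
      have h1 : Subgroup.zpowers b = ⊤ := by
        rw [eq_top_iff]
        exact fun x _ => hno x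
      have h2 : Nat.card (Subgroup.zpowers b) = p := by rw [Nat.card_zpowers, hbo]
      rw [h1, Subgroup.card_top, hAcard] at h2
      have := hp.one_lt
      nlinarith
    refine step hp hpF hζ hG hx hxp hh (A := A.map R.subtype) ?_ ?_ ?_ ?_ (a := (a : R)) (b := (b : R))
      ⟨a, a.2, rfl⟩ ⟨b, b.2, rfl⟩ ?_ ?_ ?_
    · rintro _ ⟨a, -, rfl⟩
      exact hRG a.2
    · rintro _ ⟨a, ha, rfl⟩
      have := congrArg R.subtype (hAp a ha)
      simpa using this
    · rintro _ ⟨a, ha, rfl⟩ _ ⟨b, hb, rfl⟩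
      have h3 := hAc.is_comm.comm ⟨a, ha⟩ ⟨b, hb⟩
      exact congrArg (fun z : A => R.subtype z) h3
    · rintro _ ⟨a, -, rfl⟩
      exact htr a a.2
    · intro h
      apply ha
      have : a = 1 := Subtype.ext (Subtype.ext h)
      rw [this]
      exact one_mem _
    · intro i h
      apply ha
      have h3 : a = b ^ i := Subtype.ext (Subtype.ext h)
      rw [h3]
      exact Subgroup.pow_mem _ (Subgroup.mem_zpowers b) i
    · intro h
      exact hb (Subtype.ext (Subtype.ext h))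
  obtain ⟨x₁, y₁, hxy, -⟩ := hst 1 (one_mem _) (one_pow _) (fun v => by
    rw [one_app, sub_self, map_zero]) R hRG hR (fun r _ v => by
    rw [one_app, sub_self, map_zero]) hnc
  obtain ⟨W, ⟨x, y, hxy, rfl⟩, hmin⟩ := (wellFounded_lt (α := Submodule F V)).has_min
    {W | ∃ x y, Pair G p ζ x y ∧ fixs x = W} ⟨_, x₁, y₁, hxy, rfl⟩
  refine ⟨x, y, hxy, fun R hRG hR htr => ?_⟩
  by_contra hnc
  obtain ⟨x', y', h', hlt⟩ := hst x hxy.mx hxy.ox hxy.hom R hRG hR htr hnc
  exact hmin _ ⟨x', y', h', rfl⟩ hlt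

end minimal

end Cfsg.Agent.H418.KB
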