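import Cfsg.Agent.H418.KB.Defs
import Cfsg.Agent.LieClassical.OrthCore

/-!
# S4822, classical rows: `O(Q)` is closed under splitting (helper418)
-/

set_option autoImplicit false

namespace Cfsg.Agent.H418.KB

open QuadraticMap Cfsg.Agent.LieClassical.OrthCore

variable {F V : Type*} [Field F] [AddCommGroup V] [Module F V] {Q : QuadraticForm F V}

/-- `O(Q)` -/
theorem spl_O (hQ : Nondeg Q) : Spl (polarBilin Q) (O Q) where
  sgn := Or.inl fun u v => polar_comm Q u v
  nd := fun u hu => hQ u hu
  pres := fun g hg u v => polar_map hg u v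
  split := by
    intro g hg g' U W hUW horth hgU hU hW v
    have hv : v ∈ U ⊔ W := by rw [hUW]; trivial
    obtain ⟨u, hu, w, hw, rfl⟩ := Submodule.mem_sup.1 hv
    have h1 : polar Q (g u) w = 0 := horth _ (hgU u hu) w hw
    have h2 : polar Q u w = 0 := horth _ hu w hw
    rw [map_add, hU u hu, hW w hw, Q_add, Q_add, h1, h2, hg u]
  full := by
    intro y hy c hc j hcy hcf hdec v
    obtain ⟨a, b, ha, rfl⟩ := hdec v
    have hc' : ∀ u v, polar Q (c u) (c v) = polar Q u v := hc
    have hyj : y ^ j ∈ O Q := (O Q).pow_mem hy j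
    have hyja : (y ^ j) a = a := by
      clear hcy hyj
      induction j with
      | zero => rfl
      | succ j ih => rw [pow_succ, LinearEquiv.mul_apply, ha, ih]
    have h1 : ∀ g ∈ O Q, ∀ u, Q (g u - u) = polar Q u u - polar Q (g u) u := by
      intro g hg u
      have e1 := Q_add (Q := Q) (g u) (-u)
      rw [← sub_eq_add_neg, QuadraticMap.map_neg, hg u, polar_neg_right] at e1
      rw [e1, polar_self']
      ring
    have h2 : ∀ g ∈ O Q, g a = a → ∀ u, polar Q a (g u - u) = 0 := by
      intro g hg hga u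
      have e1 := polar_map hg a u
      rw [hga] at e1
      rw [polar_sub_right, e1, sub_self]
    have h3 : c (a + (y b - b)) = a + ((y ^ j) (c b) - c b) := by rw [map_add, map_sub, hcf a ha, hcy]
    rw [h3, Q_add, Q_add, h2 _ hyj hyja, h2 _ hy ha, h1 _ hyj, h1 _ hy, ← hcy, hc', hc']

end Cfsg.Agent.H418.KB
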