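import Mathlib

/-!
# S4822, classical rows: homogeneous elements of order `p` (helper418)

`F` a finite field with `q` elements, `p` an odd prime which does not divide `q`, `ζ` a primitive `p`-th root of unity in an extension
field, `h` the minimal polynomial of `ζ + ζ⁻¹`.  For a linear automorphism `x` with `x ^ p = 1` the polynomial `fz` at `x` is
`h (x + x⁻¹)`.
-/

set_option autoImplicit false

namespace Cfsg.Agent.H418.KB

open Polynomial Module

section field

variable {F K : Type*} [Field F] [Field K] [Algebra F K] {p : ℕ}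

/-- `h (X + X⁻¹)`, `h` the minimal polynomial of `ζ + ζ⁻¹` -/
noncomputable def fz (F : Type*) [Field F] {K : Type*} [Field K] [Algebra F K] (p : ℕ) (ζ : K) : F[X] :=
  (minpoly F (ζ + ζ ^ (p - 1))).comp (X + X ^ (p - 1))

theorem aeval_fz {A : Type*} [Ring A] [Algebra F A] (ζ : K) (a : A) :
    aeval a (fz F p ζ) = aeval (a + a ^ (p - 1)) (minpoly F (ζ + ζ ^ (p - 1))) := by
  rw [fz, aeval_comp]
  simp

theorem aeval_fz_self (ζ : K) : aeval ζ (fz F p ζ) = 0 := by
  rw [aeval_fz, minpoly.aeval]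

theorem pow_sub_one_eq_inv {μ : K} (hp : 0 < p) (h : μ ^ p = 1) : μ ^ (p - 1) = μ⁻¹ := by
  have h0 : μ ≠ 0 := by
    rintro rfl
    rw [zero_pow hp.ne'] at h
    exact zero_ne_one h
  field_simp
  rw [← pow_succ, Nat.sub_add_cancel hp, h]

variable [Fintype F]

theorem add_pow_card (a b : K) : (a + b) ^ (Fintype.card F) = a ^ (Fintype.card F) + b ^ (Fintype.card F) := by
  obtain ⟨r, hr⟩ := CharP.exists F
  obtain ⟨n, hr1, hn⟩ := FiniteField.card F r
  have := Fact.mk hr1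
  have : CharP K r := (Algebra.charP_iff F K r).1 hr
  rw [hn]
  exact add_pow_char_pow ..

theorem aeval_pow_card (f : F[X]) (a : K) : aeval (a ^ Fintype.card F) f = (aeval a f) ^ Fintype.card F := by
  rw [← expand_aeval, FiniteField.expand_card, map_pow]

theorem aeval_pow_card_pow (f : F[X]) (a : K) (j : ℕ) :
    aeval (a ^ Fintype.card F ^ j) f = (aeval a f) ^ Fintype.card F ^ j := by
  induction j with
  | zero => simp
  | succ j ih => rw [pow_succ, pow_mul, aeval_pow_card, ih, ← pow_mul]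

theorem sum_eq {a b : K} (ha : a ≠ 0) (hb : b ≠ 0) (h : a + a⁻¹ = b + b⁻¹) : a = b ∨ a = b⁻¹ := by
  have h1 : (a - b) * (a * b - 1) = 0 := by
    have h2 : (a + a⁻¹) * (a * b) = (b + b⁻¹) * (a * b) := by rw [h]
    have h3 : (a + a⁻¹) * (a * b) = a * a * b + b := by field_simp
    have h4 : (b + b⁻¹) * (a * b) = b * b * a + a := by field_simp
    rw [h3, h4] at h2
    linear_combination h2
  rcases mul_eq_zero.1 h1 with h2 | h2
  · exact Or.inl (sub_eq_zero.1 h2)
  · right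
    exact eq_inv_of_mul_eq_one_left (sub_eq_zero.1 h2)

/-- the roots of `fz` among the `p`-th roots of unity -/
theorem root_fz [FiniteDimensional F K] (hp : p.Prime) {ζ : K} (hζ : IsPrimitiveRoot ζ p) {k : ℕ} :
    aeval (ζ ^ k) (fz F p ζ) = 0 ↔ ∃ j : ℕ, (k : ZMod p) = (Fintype.card F : ZMod p) ^ j ∨
      (k : ZMod p) = -(Fintype.card F : ZMod p) ^ j := by
  have : Fact p.Prime := ⟨hp⟩
  have hK : Finite K := Module.finite_of_finite F
  have hpp : 0 < p := hp.pos
  have hz1 : ζ ^ p = 1 := hζ.pow_eq_one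
  have hz0 : ζ ≠ 0 := hζ.ne_zero hp.ne_zero
  have hk1 : (ζ ^ k) ^ p = 1 := by rw [← pow_mul, mul_comm, pow_mul, hz1, one_pow]
  have hk0 : ζ ^ k ≠ 0 := pow_ne_zero _ hz0
  have key : ∀ m : ℕ, (ζ ^ k = ζ ^ m ↔ (k : ZMod p) = (m : ZMod p)) := by
    intro m
    have hu : IsPrimitiveRoot (Units.mk0 ζ hz0) p := IsPrimitiveRoot.coe_units_iff.1 hζ
    rw [ZMod.natCast_eq_natCast_iff, hu.eq_orderOf, ← pow_eq_pow_iff_modEq, Units.ext_iff]
    rfl
  have key2 : ∀ m : ℕ, (ζ ^ k = (ζ ^ m)⁻¹ ↔ (k : ZMod p) = -(m : ZMod p)) := by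
    intro m
    rw [← mul_eq_one_iff_eq_inv₀ (pow_ne_zero _ hz0), ← pow_add, hζ.pow_eq_one_iff_dvd, ← ZMod.natCast_eq_zero_iff,
      Nat.cast_add, eq_neg_iff_add_eq_zero]
  rw [aeval_fz, pow_sub_one_eq_inv hpp hk1, pow_sub_one_eq_inv hpp hz1]
  have hpw : ∀ j : ℕ, (ζ + ζ⁻¹) ^ (Fintype.card F ^ j) = ζ ^ (Fintype.card F ^ j) + (ζ ^ (Fintype.card F ^ j))⁻¹ := by
    intro j
    induction j with
    | zero => simp
    | succ j ih => rw [pow_succ, pow_mul, ih, add_pow_card, pow_mul, inv_pow]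
  constructor
  · intro h
    have hn : Normal F K := inferInstance
    obtain ⟨σ, hσ⟩ := minpoly.exists_algEquiv_of_root (Algebra.IsAlgebraic.isAlgebraic (R := F) (ζ + ζ⁻¹)) h
    obtain ⟨j, hj⟩ := (FiniteField.bijective_frobeniusAlgEquivOfAlgebraic_pow F K).2 σ⁻¹
    have h3 : ((σ⁻¹ : Gal(K/F)) : K → K) (ζ + ζ⁻¹) = (ζ + ζ⁻¹) ^ (Fintype.card F ^ (j : ℕ)) := by
      rw [← hj]
      show ((FiniteField.frobeniusAlgEquivOfAlgebraic F K) ^ (j : ℕ)) (ζ + ζ⁻¹) = _
      rw [AlgEquiv.coe_pow, FiniteField.coe_frobeniusAlgEquivOfAlgebraic_iterate]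
    have h5 : ((σ⁻¹ : Gal(K/F)) : K → K) (ζ + ζ⁻¹) = ζ ^ k + (ζ ^ k)⁻¹ := by
      rw [← hσ]
      exact σ.symm_apply_apply _
    rw [h5, hpw] at h3
    have hσ := h3
    refine ⟨j, ?_⟩
    rcases sum_eq hk0 (pow_ne_zero _ hz0) hσ with h4 | h4
    · left
      rw [(key _).1 h4, Nat.cast_pow]
    · right
      rw [(key2 _).1 h4, Nat.cast_pow]
  · rintro ⟨j, hj | hj⟩
    · have h4 : ζ ^ k = ζ ^ (Fintype.card F ^ j) := (key _).2 (by rw [hj, Nat.cast_pow])
      rw [h4, ← hpw, aeval_pow_card_pow, minpoly.aeval, zero_pow (pow_ne_zero _ Fintype.card_ne_zero)]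
    · have h4 : ζ ^ k = (ζ ^ (Fintype.card F ^ j))⁻¹ := (key2 _).2 (by rw [hj, Nat.cast_pow])
      rw [h4, inv_inv, add_comm, ← hpw, aeval_pow_card_pow, minpoly.aeval, zero_pow (pow_ne_zero _ Fintype.card_ne_zero)]

end field

section endo

variable {F : Type*} [Field F] [Fintype F] {p : ℕ}

theorem pow_card_aeval {A : Type*} [Ring A] [Algebra F A] (f : F[X]) (a : A) (j : ℕ) :
    aeval (a ^ Fintype.card F ^ j) f = (aeval a f) ^ Fintype.card F ^ j := by
  induction j with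
  | zero => simp
  | succ j ih =>
    rw [pow_succ, pow_mul, ← expand_aeval, FiniteField.expand_card, map_pow, ih, ← pow_mul]

/-- the values of the polynomials at an element of order `p` -/
theorem frob_fix (hp : p.Prime) (hpF : ¬ p ∣ Fintype.card F) :
    ∃ N, 2 ≤ N ∧ ∀ {A : Type*} [Ring A] [Algebra F A] (a : A), a ^ p = 1 → ∀ f : F[X], (aeval a f) ^ N = aeval a f := by
  refine ⟨Fintype.card F ^ (p - 1), ?_, ?_⟩
  · have h1 : 1 < Fintype.card F := Fintype.one_lt_card
    have h2 : 0 < p - 1 := Nat.sub_pos_of_lt hp.one_lt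
    calc 2 ≤ Fintype.card F := h1
      _ ≤ Fintype.card F ^ (p - 1) := Nat.le_self_pow h2.ne' _
  · intro A _ _ a ha f
    rw [← pow_card_aeval]
    have h1 : Fintype.card F ^ (p - 1) ≡ 1 [MOD p] := by
      have h2 : (Fintype.card F).Coprime p := ((Nat.Prime.coprime_iff_not_dvd hp).2 hpF).symm
      have h3 := Nat.ModEq.pow_totient h2
      rwa [Nat.totient_prime hp] at h3
    have h2 : a ^ (Fintype.card F ^ (p - 1)) = a := by
      have h3 : 1 ≤ Fintype.card F ^ (p - 1) := Nat.one_le_pow _ _ Fintype.card_pos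
      obtain ⟨t, ht⟩ := (Nat.modEq_iff_dvd' h3).1 h1.symm
      have h4 : Fintype.card F ^ (p - 1) = p * t + 1 := by omega
      rw [h4, pow_succ, pow_mul, ha, one_pow, one_mul]
    rw [h2]

variable {V : Type*} [AddCommGroup V] [Module F V]

omit [Fintype F] in
theorem ker_sup_range {r : Module.End F V} {N : ℕ} (hN : 2 ≤ N) (hr : r ^ N = r) :
    LinearMap.ker r ⊔ LinearMap.range r = ⊤ := by
  rw [eq_top_iff]
  intro v _
  obtain ⟨k, rfl⟩ : ∃ k, N = k + 2 := ⟨N - 2, by omega⟩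
  have h1 : r (v - (r ^ (k + 1)) v) = 0 := by
    rw [map_sub, ← Module.End.mul_apply, ← pow_succ', hr, sub_self]
  have h2 : (r ^ (k + 1)) v ∈ LinearMap.range r := ⟨(r ^ k) v, by rw [pow_succ', Module.End.mul_apply]⟩
  have h3 := Submodule.add_mem_sup (LinearMap.mem_ker.2 h1) h2
  rwa [sub_add_cancel] at h3

omit [Fintype F] in
theorem eq_zero_of_sq {r : Module.End F V} {N : ℕ} (hN : 2 ≤ N) (hr : r ^ N = r) {v : V} (h : r (r v) = 0) : r v = 0 := by
  obtain ⟨k, rfl⟩ : ∃ k, N = k + 2 := ⟨N - 2, by omega⟩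
  rw [← hr, pow_add, Module.End.mul_apply, pow_two, Module.End.mul_apply, h, map_zero]

omit [Fintype F] in
theorem ker_inf_range {r : Module.End F V} {N : ℕ} (hN : 2 ≤ N) (hr : r ^ N = r) :
    LinearMap.ker r ⊓ LinearMap.range r = ⊥ := by
  rw [eq_bot_iff]
  rintro _ ⟨h1, w, rfl⟩
  exact eq_zero_of_sq hN hr h1

variable {K : Type*} [Field K] [Algebra F K]

omit [Fintype F] in
/-- a root for a vector -/
theorem exists_root (hp : p.Prime) {ζ : K} (hζ : IsPrimitiveRoot ζ p) {a : Module.End F V} (ha : a ^ p = 1) {u : V}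
    (hu : u ≠ 0) : ∃ k : ℕ, ∀ f : F[X], aeval a f u = 0 → aeval (ζ ^ k) f = 0 := by
  have hNZ : NeZero p := ⟨hp.ne_zero⟩
  let I : Ideal F[X] :=
    { carrier := {f | aeval a f u = 0}
      add_mem' := fun {f g} hf hg => by
        have hf' : aeval a f u = 0 := hf
        have hg' : aeval a g u = 0 := hg
        show aeval a (f + g) u = 0
        rw [map_add, LinearMap.add_apply, hf', hg', add_zero]
      zero_mem' := by
        show aeval a (0 : F[X]) u = 0
        rw [map_zero, LinearMap.zero_apply]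
      smul_mem' := fun c f hf => by
        have hf' : aeval a f u = 0 := hf
        show aeval a (c * f) u = 0
        rw [map_mul, Module.End.mul_apply, hf', map_zero] }
  obtain ⟨m, hm⟩ := (IsPrincipalIdealRing.principal I).principal
  have hmI : ∀ f : F[X], aeval a f u = 0 ↔ m ∣ f := by
    intro f
    have h1 : f ∈ I ↔ m ∣ f := by rw [hm]; exact Ideal.mem_span_singleton
    exact h1
  have h1 : m ∣ X ^ p - 1 := by
    rw [← hmI]
    simp [ha]
  have h2 : ¬ IsUnit m := by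
    intro h
    have h3 : m ∣ 1 := isUnit_iff_dvd_one.1 h
    rw [← hmI, map_one, Module.End.one_apply] at h3
    exact hu h3
  have hX : (X ^ p - 1 : F[X]) ≠ 0 := by
    intro h
    have h3 := congrArg (Polynomial.eval 0) h
    simp [hp.ne_zero] at h3
  have hm0 : m ≠ 0 := by
    rintro rfl
    exact hX (zero_dvd_iff.1 h1)
  have h4 : (m.map (algebraMap F K)) ∣ (X ^ p - 1 : K[X]) := by
    have := Polynomial.map_dvd (algebraMap F K) h1
    simpa using this
  have hXK : (X ^ p - 1 : K[X]) ≠ 0 := by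
    intro h
    have h3 := congrArg (Polynomial.eval 0) h
    simp [hp.ne_zero] at h3
  have h5 : (m.map (algebraMap F K)).Splits := Splits.of_dvd (X_pow_sub_one_splits hζ) hXK h4
  have h6 : (m.map (algebraMap F K)).degree ≠ 0 := by
    rw [degree_map]
    intro h
    exact h2 (Polynomial.isUnit_iff_degree_eq_zero.2 h)
  obtain ⟨μ, hμ⟩ := Splits.exists_eval_eq_zero h5 h6
  have h7 : μ ^ p = 1 := by
    obtain ⟨c, hc⟩ := h4
    have h8 := congrArg (Polynomial.eval μ) hc
    rw [eval_mul, hμ, zero_mul] at h8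
    simpa [sub_eq_zero] using h8
  obtain ⟨k, -, hk⟩ := hζ.eq_pow_of_pow_eq_one h7
  refine ⟨k, fun f hf => ?_⟩
  obtain ⟨c, rfl⟩ := (hmI f).1 hf
  rw [map_mul, hk]
  have h9 : aeval μ m = 0 := by rw [← Polynomial.eval_map_algebraMap]; exact hμ
  rw [h9, zero_mul]

end endo

end Cfsg.Agent.H418.KB
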