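import Cfsg.Agent.LieClassical.OrthCore
import Cfsg.Agent.H80.OrthSplitMain
import Cfsg.Agent.H76.BinCount

/-!
# S4822, classical rows: isometries of order `p` without fixed vectors of the forms of minus type (helper418)
-/

set_option autoImplicit false

namespace Cfsg.Agent.H418.KB

open QuadraticMap Module Cfsg.Agent.LieClassical.OrthCore Cfsg.Agent.LieClassical.OrthForms

section ts

variable {F V : Type*} [Field F] [Fintype F] [AddCommGroup V] [Module F V] [FiniteDimensional F V]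
  {Q : QuadraticForm F V} {p : ℕ}

/-- an isometry of order `p ∣ q - 1` without fixed vectors: totally singular subspaces of half the dimension -/
theorem exists_ts (hQ : Nondeg Q) (hp : p.Prime) (h2 : 2 < p) (hpq : p ∣ Fintype.card F - 1) {z : V ≃ₗ[F] V} (hz : z ∈ O Q)
    (hzp : z ^ p = 1) (hfix : ∀ v, z v = v → v = 0) :
    ∃ W : Submodule F V, (∀ w ∈ W, Q w = 0) ∧ 2 * finrank F W = finrank F V := by
  classical
  have : Fact p.Prime := ⟨hp⟩
  -- a primitive root
  obtain ⟨x, hx⟩ : ∃ x : Fˣ, orderOf x = p := by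
    apply exists_prime_orderOf_dvd_card p
    rw [Fintype.card_units]
    exact hpq
  have hζ : IsPrimitiveRoot ((x : Fˣ) : F) p := by
    rw [IsPrimitiveRoot.coe_units_iff, ← hx]
    exact IsPrimitiveRoot.orderOf x
  obtain ⟨ζ, hζ'⟩ : ∃ ζ : F, ζ = x := ⟨_, rfl⟩
  rw [← hζ'] at hζ
  have hpF : (p : F) ≠ 0 := by
    intro h
    obtain ⟨r, hr⟩ := CharP.exists F
    obtain ⟨n, hr1, hn⟩ := FiniteField.card F r
    have h1 : r ∣ p := (CharP.cast_eq_zero_iff F r p).1 h
    have h3 : r = p := (Nat.prime_dvd_prime_iff_eq hr1 hp).1 h1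
    have h4 : p ∣ Fintype.card F := by rw [hn, h3]; exact dvd_pow_self p n.pos.ne'
    have h5 : 1 ≤ Fintype.card F := Fintype.card_pos
    have h6 := (Nat.dvd_sub h4 hpq)
    rw [Nat.sub_sub_self h5] at h6
    exact hp.one_lt.ne' (Nat.dvd_one.1 h6)
  -- a maximal invariant totally singular subspace
  obtain ⟨M, ⟨hM1, hM2⟩, hmax⟩ := (wellFounded_gt (α := Submodule F V)).has_min
    {W | (∀ w ∈ W, z w ∈ W) ∧ ∀ w ∈ W, Q w = 0} ⟨⊥, fun w hw => by
      rw [Submodule.mem_bot] at hw ⊢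
      rw [hw, map_zero], fun w hw => by
      rw [Submodule.mem_bot] at hw
      rw [hw, QuadraticMap.map_zero]⟩
  refine ⟨M, hM2, ?_⟩
  have hpol : ∀ w ∈ M, ∀ w' ∈ M, polar Q w w' = 0 := by
    intro w hw w' hw'
    rw [polar, hM2 _ (M.add_mem hw hw'), hM2 _ hw, hM2 _ hw', sub_zero, sub_zero]
  have hnd : (polarBilin Q).Nondegenerate := by
    refine ⟨fun u hu => hQ u hu, fun u hu => hQ u fun w => ?_⟩
    rw [polar_comm]
    exact hu w
  have hrefl : (polarBilin Q).IsRefl := fun u w h => by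
    change polar Q u w = 0 at h
    change polar Q w u = 0
    rw [polar_comm, h]
  have hfr : finrank F (LinearMap.BilinForm.orthogonal (polarBilin Q) M) = finrank F V - finrank F M :=
    LinearMap.BilinForm.finrank_orthogonal hnd M
  have hle : finrank F M ≤ finrank F V := Submodule.finrank_le M
  have hmem : ∀ v, v ∈ LinearMap.BilinForm.orthogonal (polarBilin Q) M ↔ ∀ w ∈ M, polar Q w v = 0 := fun v => Iff.rfl
  suffices h : M = LinearMap.BilinForm.orthogonal (polarBilin Q) M by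
    rw [← h] at hfr
    omega
  apply le_antisymm
  · intro w hw
    exact (hmem w).2 fun w' hw' => hpol w' hw' w hw
  intro v hv
  rw [hmem] at hv
  by_contra hvM
  -- invariance
  have hzM : ∀ w ∈ M, z⁻¹ w ∈ M := by
    have h1 : M.map (z : V →ₗ[F] V) = M := by
      apply Submodule.eq_of_le_of_finrank_eq
      · rintro _ ⟨w, hw, rfl⟩
        exact hM1 w hw
      · exact (Submodule.equivMapOfInjective (z : V →ₗ[F] V) z.injective _).finrank_eq.symm
    intro w hw
    rw [← h1] at hw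
    obtain ⟨w', hw', rfl⟩ := hw
    have : z⁻¹ (z w') = w' := z.symm_apply_apply w'
    show z⁻¹ (z w') ∈ _
    rw [this]
    exact hw'
  have hperp : ∀ u, (∀ w ∈ M, polar Q w u = 0) → ∀ w ∈ M, polar Q w (z u) = 0 := by
    intro u hu w hw
    have h1 := polar_map hz (z⁻¹ w) u
    have h3 : z (z⁻¹ w) = w := z.apply_symm_apply w
    rw [h3] at h1
    rw [h1]
    exact hu _ (hzM w hw)
  have hperpk : ∀ k : ℕ, ∀ w ∈ M, polar Q w ((z ^ k) v) = 0 := by
    intro k
    induction k with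
    | zero => exact hv
    | succ k ih =>
      rw [pow_succ']
      exact hperp _ ih
  -- the projections
  obtain ⟨π, hπ⟩ : ∃ π : ℕ → V, ∀ j, π j = ∑ k ∈ Finset.range p, (ζ ^ (j * k)) • (z ^ k) v := ⟨_, fun _ => rfl⟩
  have hsum : ∑ j ∈ Finset.range p, π j = (p : F) • v := by
    simp only [hπ]
    rw [Finset.sum_comm]
    have h1 : ∀ k ∈ Finset.range p, k ≠ 0 → ∑ j ∈ Finset.range p, (ζ ^ (j * k)) • (z ^ k) v = 0 := by
      intro k hk hk0
      rw [← Finset.sum_smul]
      have h3 : IsPrimitiveRoot (ζ ^ k) p :=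
        hζ.pow_of_coprime k (Nat.coprime_of_lt_prime hk0 (Finset.mem_range.1 hk) hp).symm
      have h4 := h3.geom_sum_eq_zero hp.one_lt
      have h5 : ∑ j ∈ Finset.range p, ζ ^ (j * k) = ∑ j ∈ Finset.range p, (ζ ^ k) ^ j :=
        Finset.sum_congr rfl fun j _ => by rw [← pow_mul, mul_comm]
      rw [h5, h4, zero_smul]
    rw [Finset.sum_eq_single 0 h1 (fun h => absurd (Finset.mem_range.2 hp.pos) h)]
    simp only [mul_zero, pow_zero, one_smul]
    rw [Finset.sum_const, Finset.card_range, Nat.cast_smul_eq_nsmul]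
    rfl
  obtain ⟨j, hj⟩ : ∃ j, π j ∉ M := by
    by_contra hno
    push Not at hno
    apply hvM
    have h1 : (p : F) • v ∈ M := by
      rw [← hsum]
      exact M.sum_mem fun j _ => hno j
    have h3 := M.smul_mem (p : F)⁻¹ h1
    rwa [smul_smul, inv_mul_cancel₀ hpF, one_smul] at h3
  have hπp : ∀ w ∈ M, polar Q w (π j) = 0 := by
    intro w hw
    rw [hπ]
    have h1 : polar Q w (∑ k ∈ Finset.range p, (ζ ^ (j * k)) • (z ^ k) v) =
        polarBilin Q w (∑ k ∈ Finset.range p, (ζ ^ (j * k)) • (z ^ k) v) := rfl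
    rw [h1, map_sum]
    refine Finset.sum_eq_zero fun k _ => ?_
    rw [map_smul]
    have h3 : polarBilin Q w ((z ^ k) v) = 0 := hperpk k w hw
    rw [h3, smul_zero]
  have hz0 : ζ ≠ 0 := hζ.ne_zero hp.ne_zero
  have hζj : ζ ^ (j * p) = 1 := by rw [mul_comm, pow_mul, hζ.pow_eq_one, one_pow]
  have hπz : (ζ ^ j) • z (π j) = π j := by
    have h1 : (ζ ^ j) • z (π j) = ∑ k ∈ Finset.range p, (ζ ^ (j * (k + 1))) • (z ^ (k + 1)) v := by
      rw [hπ, map_sum, Finset.smul_sum]
      refine Finset.sum_congr rfl fun k _ => ?_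
      rw [map_smul, smul_smul, ← pow_add, pow_succ', LinearEquiv.mul_apply]
      congr 2
      ring
    rw [h1]
    have h4 := Finset.sum_range_succ' (fun k => (ζ ^ (j * k)) • (z ^ k) v) p
    have h5 := Finset.sum_range_succ (fun k => (ζ ^ (j * k)) • (z ^ k) v) p
    rw [h5] at h4
    have h6 : (ζ ^ (j * p)) • (z ^ p) v = (ζ ^ (j * 0)) • (z ^ 0) v := by
      rw [hζj, hzp, mul_zero, pow_zero, pow_zero]
    rw [h6] at h4
    rw [hπ]
    exact (add_right_cancel h4).symm
  generalize hu : π j = u at *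
  have hu0 : u ≠ 0 := by
    rintro rfl
    exact hj M.zero_mem
  obtain ⟨c, hc⟩ : ∃ c : F, c = (ζ ^ j)⁻¹ := ⟨_, rfl⟩
  have hzu : z u = c • u := by
    rw [hc]
    conv_rhs => rw [← hπz]
    rw [smul_smul, inv_mul_cancel₀ (pow_ne_zero j hz0), one_smul]
  have hcp : c ^ p = 1 := by rw [hc, inv_pow, ← pow_mul, hζj, inv_one]
  have hc1 : c ≠ 1 := by
    intro h
    rw [h, one_smul] at hzu
    exact hu0 (hfix u hzu)
  have hc2 : c * c ≠ 1 := by
    intro h
    apply hc1
    obtain ⟨k, hk⟩ := hp.odd_of_ne_two (by omega : p ≠ 2)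
    rw [hk, pow_succ, pow_mul, pow_two, h, one_pow, one_mul] at hcp
    exact hcp
  have hQu : Q u = 0 := by
    have h1 := hz u
    rw [hzu, QuadraticMap.map_smul, smul_eq_mul] at h1
    have h3 : (c * c - 1) * Q u = 0 := by linear_combination h1
    exact (mul_eq_zero.1 h3).resolve_left (sub_ne_zero.2 hc2)
  refine hmax (M ⊔ Submodule.span F {u}) ⟨?_, ?_⟩ ?_
  · intro w hw
    obtain ⟨a, ha, b, hb, rfl⟩ := Submodule.mem_sup.1 hw
    obtain ⟨d, rfl⟩ := Submodule.mem_span_singleton.1 hb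
    rw [map_add, map_smul, hzu]
    refine Submodule.add_mem_sup (hM1 a ha) (Submodule.smul_mem _ _ (Submodule.smul_mem _ _ (Submodule.mem_span_singleton_self u)))
  · intro w hw
    obtain ⟨a, ha, b, hb, rfl⟩ := Submodule.mem_sup.1 hw
    obtain ⟨d, rfl⟩ := Submodule.mem_span_singleton.1 hb
    rw [Q_add, hM2 a ha, QuadraticMap.map_smul, hQu, polar_smul_right, hπp a ha, smul_zero, smul_zero, zero_add, zero_add]
  · show M < _
    refine lt_of_le_of_ne le_sup_left fun h => hj ?_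
    rw [h]
    exact (le_sup_right : Submodule.span F {u} ≤ _) (Submodule.mem_span_singleton_self u)

end ts

section count

variable {F V : Type*} [Field F] [AddCommGroup V] [Module F V] [Finite V] {Q : QuadraticForm F V} {p : ℕ}

/-- the number of singular vectors -/
theorem card_modEq (hp : p.Prime) {z : V ≃ₗ[F] V} (hz : z ∈ O Q) (hzp : z ^ p = 1) (hfix : ∀ v, z v = v → v = 0) :
    Nat.card {v : V // Q v = 0} ≡ 1 [MOD p] := by
  classical
  have : Fact p.Prime := ⟨hp⟩
  have hfin := Fintype.ofFinite V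
  let _ : MulAction (Subgroup.zpowers z) {v : V // Q v = 0} :=
    { smul := fun g v => ⟨(g : V ≃ₗ[F] V) v.1, by
        rw [(O Q).zpowers_le.2 hz g.2 v.1]
        exact v.2⟩
      one_smul := fun v => Subtype.ext rfl
      mul_smul := fun g h v => Subtype.ext rfl }
  have hfinL : Finite (V ≃ₗ[F] V) := Finite.of_injective (fun f => (f : V → V)) DFunLike.coe_injective
  have hG : IsPGroup p (Subgroup.zpowers z) := by
    rcases eq_or_ne z 1 with h | h
    · subst h
      rw [Subgroup.zpowers_one_eq_bot]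
      exact IsPGroup.of_bot
    · refine IsPGroup.of_card (n := 1) ?_
      rw [Nat.card_zpowers, orderOf_eq_prime hzp h, pow_one]
  have h1 := hG.card_modEq_card_fixedPoints {v : V // Q v = 0}
  have h2 : Nat.card (MulAction.fixedPoints (Subgroup.zpowers z) {v : V // Q v = 0}) = 1 := by
    rw [Nat.card_eq_one_iff_exists]
    refine ⟨⟨⟨0, QuadraticMap.map_zero Q⟩, ?_⟩, ?_⟩
    · intro g
      exact Subtype.ext (map_zero (g : V ≃ₗ[F] V))
    · rintro ⟨⟨v, hv⟩, h⟩
      apply Subtype.ext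
      apply Subtype.ext
      exact hfix v (congrArg Subtype.val (h ⟨z, Subgroup.mem_zpowers z⟩))
  rw [h2] at h1
  exact h1

end count

section minus

variable {F : Type*} [Field F] [Fintype F] {p : ℕ} {a b : F}

/-- isometries of order `p` without fixed vectors of the form of minus type -/
theorem minus_free (hab : ∀ z₁ z₂ : F, z₁ ^ 2 + a * z₁ * z₂ + b * z₂ ^ 2 = 0 → z₁ = 0 ∧ z₂ = 0) {l : ℕ} (hp : p.Prime)
    (h2 : 2 < p) (hpF : ¬ p ∣ Fintype.card F) {z : ((Fin l ⊕ Fin l) ⊕ Fin 2 → F) ≃ₗ[F] ((Fin l ⊕ Fin l) ⊕ Fin 2 → F)}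
    (hz : z ∈ O (minusForm l F a b)) (hzp : z ^ p = 1) (hfix : ∀ v, z v = v → v = 0) :
    ¬ p ∣ Fintype.card F - 1 ∧ p ∣ (Fintype.card F ^ l - 1) * (Fintype.card F ^ (l + 1) + 1) := by
  have : Fact p.Prime := ⟨hp⟩
  have hfr : finrank F ((Fin l ⊕ Fin l) ⊕ Fin 2 → F) = 2 * (l + 1) := by
    rw [finrank_fintype_fun_eq_card]
    simp
    ring
  refine ⟨fun hpq => ?_, ?_⟩
  · obtain ⟨W, hW, hW2⟩ := exists_ts (nondeg_minusForm l F a b hab) hp h2 hpq hz hzp hfix
    exact Cfsg.Agent.H80.no_half a b hab W (by omega) hW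
  · have h1 := card_modEq hp hz hzp hfix
    have h3 := Cfsg.Agent.H76.BinCount.card_minusForm hab l (0 : F)
    rw [Cfsg.Agent.H76.BinCount.card_bf_zero hab, one_mul, Nat.card_eq_fintype_card (α := F)] at h3
    have h4 : {v : (Fin l ⊕ Fin l) ⊕ Fin 2 → F | minusForm l F a b v = 0}.ncard =
        Nat.card {v : (Fin l ⊕ Fin l) ⊕ Fin 2 → F // minusForm l F a b v = 0} := rfl
    rw [h4] at h3
    generalize Nat.card {v : (Fin l ⊕ Fin l) ⊕ Fin 2 → F // minusForm l F a b v = 0} = N at h1 h3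
    have h5 : (N : ZMod p) = 1 := by
      rw [← Nat.cast_one, ZMod.natCast_eq_natCast_iff]
      exact h1
    have h6 := congrArg (Nat.cast : ℕ → ZMod p) h3
    push_cast at h6
    rw [h5] at h6
    have hq : (Fintype.card F : ZMod p) ≠ 0 := by rwa [Ne, ZMod.natCast_eq_zero_iff]
    rw [← ZMod.natCast_eq_zero_iff, Nat.cast_mul, Nat.cast_sub (Nat.one_le_pow _ _ Fintype.card_pos)]
    push_cast
    have h7 : (Fintype.card F : ZMod p) * (((Fintype.card F : ZMod p) ^ l - 1) * ((Fintype.card F : ZMod p) ^ (l + 1) + 1)) = 0 := by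
      have e1 : (Fintype.card F : ZMod p) ^ (2 * l + 2) = (Fintype.card F : ZMod p) * (Fintype.card F : ZMod p) ^ l * (Fintype.card F : ZMod p) ^ (l + 1) := by
        ring
      rw [e1] at h6
      linear_combination -h6
    exact (mul_eq_zero.1 h7).resolve_left hq

end minus

end Cfsg.Agent.H418.KB
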