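import Cfsg.Agent.H418.KB.Core

/-!
# S4822, classical rows: the fusion of `x` is induced on `y` (helper418)
-/

set_option autoImplicit false

namespace Cfsg.Agent.H418.KB

open Polynomial Module

variable {F V : Type*} [Field F] [Fintype F] [AddCommGroup V] [Module F V] {p : ℕ} {K : Type*}
  [Field K] [Algebra F K] [FiniteDimensional F K] {ζ : K} {B : V →ₗ[F] V →ₗ[F] F} {G : Subgroup (V ≃ₗ[F] V)}

theorem pow_congr {H : Type*} [Group H] {y : H} (hy : y ^ p = 1) {i j : ℕ} (h : (i : ZMod p) = (j : ZMod p)) :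
    y ^ i = y ^ j := by
  rw [ZMod.natCast_eq_natCast_iff] at h
  exact pow_eq_pow_iff_modEq.2 (h.of_dvd (orderOf_dvd_of_pow_eq_one hy))

theorem pow_congr_neg {H : Type*} [Group H] {y : H} (hy : y ^ p = 1) {i j : ℕ} (h : (i : ZMod p) = -(j : ZMod p)) :
    y ^ i = (y ^ j)⁻¹ := by
  rw [eq_inv_iff_mul_eq_one, ← pow_add]
  have h1 : ((i + j : ℕ) : ZMod p) = ((0 : ℕ) : ZMod p) := by rw [Nat.cast_add, h, neg_add_cancel, Nat.cast_zero]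
  rw [pow_congr hy h1, pow_zero]

/-- see the header -/
theorem fus_of (hp : p.Prime) (hpF : ¬ p ∣ Fintype.card F) (hζ : IsPrimitiveRoot ζ p) {x y : V ≃ₗ[F] V}
    (hxy : Pair G p ζ x y)
    (hcq : ∃ c ∈ G, c * y * c⁻¹ = y ^ Fintype.card F ∧ ∀ v, y v = v → c v = v)
    (hci : ∃ c ∈ G, c * y * c⁻¹ = y⁻¹ ∧ ∀ v, y v = v → c v = v) {g : V ≃ₗ[F] V} {i : ℕ}
    (hg : g * x * g⁻¹ = x ^ i) : ∃ c ∈ G, (∀ v, y v = v → c v = v) ∧ c * y * c⁻¹ = y ^ i := by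
  obtain ⟨c₁, hc₁, hc₁y, hc₁f⟩ := hcq
  obtain ⟨c₂, hc₂, hc₂y, hc₂f⟩ := hci
  have hpow : ∀ j : ℕ, c₁ ^ j * y * (c₁ ^ j)⁻¹ = y ^ (Fintype.card F ^ j) := by
    intro j
    induction j with
    | zero => simp
    | succ j ih =>
      have h1 : c₁ ^ (j + 1) * y * (c₁ ^ (j + 1))⁻¹ = c₁ * (c₁ ^ j * y * (c₁ ^ j)⁻¹) * c₁⁻¹ := by
        rw [pow_succ', mul_inv_rev]
        group
      rw [h1, ih, ← conj_pow, hc₁y, ← pow_mul, pow_succ']
  have hfix : ∀ j : ℕ, ∀ v, y v = v → (c₁ ^ j) v = v := by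
    intro j v hv
    induction j with
    | zero => rfl
    | succ j ih => rw [pow_succ, LinearEquiv.mul_apply, hc₁f v hv, ih]
  obtain ⟨j, hj | hj⟩ := fusion hp hpF hζ hxy.ox hxy.nx hxy.hom hg
  · refine ⟨c₁ ^ j, G.pow_mem hc₁ j, hfix j, ?_⟩
    rw [hpow, pow_congr hxy.oy (i := i) (j := Fintype.card F ^ j) (by rw [hj, Nat.cast_pow])]
  · refine ⟨c₁ ^ j * c₂, G.mul_mem (G.pow_mem hc₁ j) hc₂, fun v hv => ?_, ?_⟩
    · rw [LinearEquiv.mul_apply, hc₂f v hv, hfix j v hv]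
    · have h1 : c₁ ^ j * c₂ * y * (c₁ ^ j * c₂)⁻¹ = (c₁ ^ j * y * (c₁ ^ j)⁻¹)⁻¹ := by
        rw [mul_inv_rev, mul_assoc, mul_assoc, ← mul_assoc c₂ y, ← mul_assoc (c₂ * y), hc₂y]
        group
      rw [h1, hpow, pow_congr_neg hxy.oy (i := i) (j := Fintype.card F ^ j) (by rw [hj, Nat.cast_pow])]

end Cfsg.Agent.H418.KB
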