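import Mathlib

/-!
# S4822, classical rows: groups of isometries closed under orthogonal splitting (helper418)

`Spl B G`: `B` is a nondegenerate symmetric or alternating bilinear form on `V`, `G` a group of isometries of `B` which contains
with `g` the element `g|_U + 1|_W` for every orthogonal decomposition `V = U + W` into `g`-invariant subspaces, and which contains the
isometries `c` of `B` normalising `⟨y⟩`, `y ∈ G`, and trivial on `C_V(y)`.  (`O(Q)` and `Sp(B)`, in all characteristics.)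
-/

set_option autoImplicit false

namespace Cfsg.Agent.H418.KB

variable {F V : Type*} [Field F] [AddCommGroup V] [Module F V]

/-- see the header -/
structure Spl (B : V →ₗ[F] V →ₗ[F] F) (G : Subgroup (V ≃ₗ[F] V)) : Prop where
  sgn : (∀ u v, B u v = B v u) ∨ (∀ v, B v v = 0)
  nd : ∀ u, (∀ v, B u v = 0) → u = 0
  pres : ∀ g ∈ G, ∀ u v, B (g u) (g v) = B u v
  split : ∀ g ∈ G, ∀ g' : V ≃ₗ[F] V, ∀ U W : Submodule F V, U ⊔ W = ⊤ → (∀ u ∈ U, ∀ w ∈ W, B u w = 0) →
    (∀ u ∈ U, g u ∈ U) → (∀ u ∈ U, g' u = g u) → (∀ w ∈ W, g' w = w) → g' ∈ G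
  full : ∀ y ∈ G, ∀ c : V ≃ₗ[F] V, (∀ u v, B (c u) (c v) = B u v) → ∀ j : ℕ, (∀ v, c (y v) = (y ^ j) (c v)) →
    (∀ v, y v = v → c v = v) → (∀ v, ∃ a b, y a = a ∧ v = a + (y b - b)) → c ∈ G

variable {B : V →ₗ[F] V →ₗ[F] F} {G : Subgroup (V ≃ₗ[F] V)}

theorem Spl.skew (hG : Spl B G) : ∃ e : F, e * e = 1 ∧ ∀ u v, B u v = e * B v u := by
  rcases hG.sgn with h | h
  · exact ⟨1, by ring, fun u v => by rw [h u v, one_mul]⟩
  · refine ⟨-1, by ring, fun u v => ?_⟩
    have h1 := h (u + v)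
    rw [map_add, map_add, LinearMap.add_apply, LinearMap.add_apply, h u, h v, zero_add, add_zero] at h1
    rw [neg_one_mul, eq_neg_iff_add_eq_zero, add_comm]
    exact h1

theorem Spl.comm_zero (hG : Spl B G) {u v : V} (h : B u v = 0) : B v u = 0 := by
  obtain ⟨e, -, he⟩ := hG.skew
  rw [he, h, mul_zero]

end Cfsg.Agent.H418.KB
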