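import Cfsg.Agent.H418.KB.Core
import Cfsg.Agent.H418.KB.Orth
import Cfsg.Agent.H560.KB.Conj
import Cfsg.Agent.H806.KB.Fin

/-!
# S4822, classical rows: the core theorem (helper418; `conj_q`, `conj_inv` by helper560)
-/

set_option autoImplicit false

open Module Cfsg.Agent.LieClassical.OrthCore QuadraticMap

namespace Cfsg.Agent.H418.KB

variable {F V : Type*} [Field F] [Fintype F] [AddCommGroup V] [Module F V] [FiniteDimensional F V] {p : ℕ}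

theorem triv_of {x y c : V ≃ₗ[F] V} (htr : ∀ v, y (x v - v) = x v - v) (h : ∀ v, y v = v → c v = v) (v : V) :
    c (x v - v) = x v - v := h _ (htr v)

/-- **the core theorem** -/
theorem core {B : V →ₗ[F] V →ₗ[F] F} {G : Subgroup (V ≃ₗ[F] V)} (hG : Spl B G) (hp : p.Prime) (h2 : 2 < p)
    (hpF : ¬ p ∣ Fintype.card F) {R : Subgroup (V ≃ₗ[F] V)} (hRG : R ≤ G) (hR : IsPGroup p R) (hnc : ¬ IsCyclic R) :
    ∃ x y, Cfsg.Agent.H806.KB.Core p G x y := by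
  have hne : NeZero (p : F) := ⟨p_ne (F := F) hp hpF⟩
  have hp0 : NeZero p := ⟨hp.ne_zero⟩
  have hζ := IsCyclotomicExtension.zeta_spec p F (CyclotomicField p F)
  have hfdK : FiniteDimensional F (CyclotomicField p F) := IsCyclotomicExtension.finiteDimensional {p} F _
  obtain ⟨x, y, hxy, hcyc⟩ := exists_min_pair hp h2 hpF hζ hG hRG hR hnc
  refine ⟨x, y, hxy.mx, hxy.my, hxy.ox, hxy.nx, hxy.oy, hxy.ny, hxy.triv,
    fun g i hg => fusion hp hpF hζ hxy.ox hxy.nx hxy.hom hg, hcyc, ?_, ?_⟩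
  · obtain ⟨c, hc, hcy, hcf⟩ := H560.KBConj.conj_q hG hp h2 hpF hxy.my hxy.oy
    exact ⟨c, hc, triv_of hxy.triv hcf, hcy⟩
  · obtain ⟨c, hc, hcy, hcf⟩ := H560.KBConj.conj_inv hG hp h2 hpF hxy.my hxy.oy
    exact ⟨c, hc, triv_of hxy.triv hcf, hcy⟩

/-- the conjugation statement for `O(Q)` (`H875.KB.CQ`) -/
theorem cq {Q : QuadraticForm F V} (hQ : Nondeg Q) (hp : p.Prime) (h2 : 2 < p) (hpF : ¬ p ∣ Fintype.card F) :
    ∀ y ∈ O Q, y ^ p = 1 → (∃ c ∈ O Q, c * y * c⁻¹ = y ^ (Fintype.card F) ∧ ∀ v, y v = v → c v = v) ∧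
      (∃ c ∈ O Q, c * y * c⁻¹ = y⁻¹ ∧ ∀ v, y v = v → c v = v) :=
  fun _ hy hyp => ⟨H560.KBConj.conj_q (spl_O hQ) hp h2 hpF hy hyp, H560.KBConj.conj_inv (spl_O hQ) hp h2 hpF hy hyp⟩

end Cfsg.Agent.H418.KB
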