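import Cfsg.Agent.H418.KB.Hom
import Cfsg.Agent.H418.KB.Defs
import Cfsg.Agent.S0126

/-!
# S4822, classical rows: the minimal homogeneous element (helper418)
-/

set_option autoImplicit false

namespace Cfsg.Agent.H418.KB

open Polynomial Module

section gen

variable {F V : Type*} [Field F] [AddCommGroup V] [Module F V]

/-- linear automorphisms as endomorphisms -/
noncomputable def el : (V ≃ₗ[F] V) →* Module.End F V := LinearEquiv.automorphismGroup.toLinearMapMonoidHom

theorem el_apply (g : V ≃ₗ[F] V) (v : V) : el g v = g v := rfl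

theorem one_app (v : V) : (1 : V ≃ₗ[F] V) v = v := rfl

theorem el_pow {x : V ≃ₗ[F] V} {p : ℕ} (h : x ^ p = 1) : (el x) ^ p = 1 := by rw [← map_pow, h, map_one]

theorem comm_aeval {g x : V ≃ₗ[F] V} (h : g * x = x * g) (f : F[X]) (v : V) :
    g (aeval (el x) f v) = aeval (el x) f (g v) := by
  induction f using Polynomial.induction_on' generalizing v with
  | add f1 f2 h1 h2 => rw [map_add, LinearMap.add_apply, LinearMap.add_apply, map_add, h1, h2]
  | monomial n a =>
    have h1 : g * x ^ n = x ^ n * g := (show Commute g x from h).pow_right n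
    rw [aeval_monomial, ← map_pow, Module.End.mul_apply, Module.End.mul_apply, Module.algebraMap_end_apply,
      Module.algebraMap_end_apply, map_smul, el_apply, el_apply, ← LinearEquiv.mul_apply, ← LinearEquiv.mul_apply, h1]

theorem self_aeval (x : V ≃ₗ[F] V) (f : F[X]) (v : V) : x (aeval (el x) f v) = aeval (el x) f (x v) :=
  comm_aeval rfl f v

theorem aeval_fixed {x : V ≃ₗ[F] V} (f : F[X]) {v : V} (h : x v = v) : aeval (el x) f v = (f.eval 1) • v := by
  induction f using Polynomial.induction_on' with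
  | add f1 f2 h1 h2 => rw [map_add, LinearMap.add_apply, h1, h2, eval_add, add_smul]
  | monomial n a =>
    have h1 : ∀ n : ℕ, (x ^ n) v = v := by
      intro n
      induction n with
      | zero => rfl
      | succ n ih => rw [pow_succ, LinearEquiv.mul_apply, h, ih]
    rw [aeval_monomial, ← map_pow, Module.End.mul_apply, Module.algebraMap_end_apply, el_apply, h1, eval_monomial,
      one_pow, mul_one]

/-- change of the operator where it agrees -/
theorem aeval_congr {x y : V ≃ₗ[F] V} {W : Submodule F V} (h : ∀ w ∈ W, x w = y w) (hW : ∀ w ∈ W, y w ∈ W) (f : F[X])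
    {w : V} (hw : w ∈ W) : aeval (el x) f w = aeval (el y) f w := by
  have h1 : ∀ n : ℕ, (x ^ n) w = (y ^ n) w ∧ (y ^ n) w ∈ W := by
    intro n
    induction n with
    | zero => exact ⟨rfl, hw⟩
    | succ n ih =>
      rw [pow_succ', pow_succ', LinearEquiv.mul_apply, LinearEquiv.mul_apply, ih.1]
      exact ⟨h _ ih.2, hW _ ih.2⟩
  induction f using Polynomial.induction_on' with
  | add f1 f2 h1 h2 => rw [map_add, map_add, LinearMap.add_apply, LinearMap.add_apply, h1, h2]
  | monomial n a =>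
    rw [aeval_monomial, aeval_monomial, ← map_pow, ← map_pow, Module.End.mul_apply, Module.End.mul_apply, el_apply,
      el_apply, (h1 n).1]

theorem aeval_conj (g x : V ≃ₗ[F] V) (f : F[X]) (v : V) :
    aeval (el (g * x * g⁻¹)) f v = g (aeval (el x) f (g⁻¹ v)) := by
  induction f using Polynomial.induction_on' with
  | add f1 f2 h1 h2 => rw [map_add, map_add, LinearMap.add_apply, LinearMap.add_apply, h1, h2, map_add]
  | monomial n a =>
    rw [aeval_monomial, aeval_monomial, ← map_pow, ← map_pow, Module.End.mul_apply, Module.End.mul_apply, el_apply,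
      el_apply, conj_pow, LinearEquiv.mul_apply, LinearEquiv.mul_apply, Module.algebraMap_end_apply,
      Module.algebraMap_end_apply, map_smul]

variable {B : V →ₗ[F] V →ₗ[F] F} {G : Subgroup (V ≃ₗ[F] V)}

theorem adj (hG : Spl B G) {x : V ≃ₗ[F] V} (hx : x ∈ G) (f : F[X]) (u v : V) :
    B (aeval (el x) f u) v = B u (aeval (el x⁻¹) f v) := by
  induction f using Polynomial.induction_on' with
  | add f1 f2 h1 h2 => rw [map_add, map_add, LinearMap.add_apply, LinearMap.add_apply, map_add, map_add,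
      LinearMap.add_apply, h1, h2]
  | monomial n a =>
    have h1 : B ((x ^ n) u) v = B u ((x⁻¹ ^ n) v) := by
      have h2 := hG.pres _ (G.pow_mem hx n) u ((x⁻¹ ^ n) v)
      rw [← LinearEquiv.mul_apply, inv_pow, mul_inv_cancel, one_app] at h2
      rw [h2, inv_pow]
    rw [aeval_monomial, aeval_monomial, ← map_pow, ← map_pow, Module.End.mul_apply, Module.End.mul_apply, el_apply,
      el_apply, Module.algebraMap_end_apply, Module.algebraMap_end_apply, map_smul, map_smul, LinearMap.smul_apply, h1]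

end gen

section pr

variable {F V : Type*} [Field F] [Fintype F] [AddCommGroup V] [Module F V] {p : ℕ}

/-- projection on the range of `f(x)` -/
noncomputable def pr (p : ℕ) (x : V ≃ₗ[F] V) (f : F[X]) : Module.End F V :=
  aeval (el x) (f ^ (Fintype.card F ^ (p - 1) - 1))

variable {x : V ≃ₗ[F] V} {f : F[X]}

theorem two_le_NN (hp : p.Prime) : 2 ≤ Fintype.card F ^ (p - 1) := by
  have h1 : 1 < Fintype.card F := Fintype.one_lt_card
  have h2 : 0 < p - 1 := Nat.sub_pos_of_lt hp.one_lt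
  calc 2 ≤ Fintype.card F := h1
    _ ≤ Fintype.card F ^ (p - 1) := Nat.le_self_pow h2.ne' _

theorem frob (hp : p.Prime) (hpF : ¬ p ∣ Fintype.card F) (hx : x ^ p = 1) (f : F[X]) :
    (aeval (el x) f) ^ (Fintype.card F ^ (p - 1)) = aeval (el x) f := by
  rw [← pow_card_aeval]
  have h1 : Fintype.card F ^ (p - 1) ≡ 1 [MOD p] := by
    have h2 : (Fintype.card F).Coprime p := ((Nat.Prime.coprime_iff_not_dvd hp).2 hpF).symm
    have h3 := Nat.ModEq.pow_totient h2
    rwa [Nat.totient_prime hp] at h3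
  have h3 : 1 ≤ Fintype.card F ^ (p - 1) := Nat.one_le_pow _ _ Fintype.card_pos
  obtain ⟨t, ht⟩ := (Nat.modEq_iff_dvd' h3).1 h1.symm
  have h4 : Fintype.card F ^ (p - 1) = p * t + 1 := by omega
  rw [h4, pow_succ, pow_mul, el_pow hx, one_pow, one_mul]

theorem pr_range (hp : p.Prime) (hpF : ¬ p ∣ Fintype.card F) (hx : x ^ p = 1) (v : V) :
    pr p x f (aeval (el x) f v) = aeval (el x) f v := by
  rw [pr, map_pow, ← Module.End.mul_apply, ← pow_succ, Nat.sub_add_cancel ((two_le_NN (F := F) hp).trans' one_le_two),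
    frob hp hpF hx]

theorem range_pr (hp : p.Prime) (v : V) : ∃ w, pr p x f v = aeval (el x) f w := by
  have h1 : 1 ≤ Fintype.card F ^ (p - 1) - 1 := by
    have := two_le_NN (F := F) hp
    omega
  obtain ⟨k, hk⟩ := Nat.exists_eq_add_of_le h1
  refine ⟨(aeval (el x) f ^ k) v, ?_⟩
  rw [pr, map_pow, hk, ← Module.End.mul_apply, ← pow_succ', add_comm]

theorem pr_ker (hp : p.Prime) {v : V} (h : aeval (el x) f v = 0) : pr p x f v = 0 := by
  have h1 : 1 ≤ Fintype.card F ^ (p - 1) - 1 := by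
    have := two_le_NN (F := F) hp
    omega
  obtain ⟨k, hk⟩ := Nat.exists_eq_add_of_le h1
  rw [pr, map_pow, hk, add_comm, pow_succ, Module.End.mul_apply, h, map_zero]

theorem ker_pr (hp : p.Prime) (hpF : ¬ p ∣ Fintype.card F) (hx : x ^ p = 1) (v : V) :
    aeval (el x) f (v - pr p x f v) = 0 := by
  rw [map_sub, pr, map_pow, ← Module.End.mul_apply, ← pow_succ',
    Nat.sub_add_cancel ((two_le_NN (F := F) hp).trans' one_le_two), frob hp hpF hx, sub_self]

theorem pr_pr (hp : p.Prime) (hpF : ¬ p ∣ Fintype.card F) (hx : x ^ p = 1) (v : V) :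
    pr p x f (pr p x f v) = pr p x f v := by
  obtain ⟨w, hw⟩ := range_pr (x := x) (f := f) hp v
  rw [hw, pr_range hp hpF hx]

theorem pr_comm {g : V ≃ₗ[F] V} (h : g * x = x * g) (v : V) : g (pr p x f v) = pr p x f (g v) := comm_aeval h _ v

omit [Fintype F] in
theorem comm_inv {g x : V ≃ₗ[F] V} (h : g * x = x * g) : g⁻¹ * x = x * g⁻¹ := by
  rw [inv_mul_eq_iff_eq_mul, ← mul_assoc, h, mul_assoc, mul_inv_cancel, mul_one]

/-- `g` on the kernel of `f(x)`, the identity on the range -/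
noncomputable def bl (hp : p.Prime) (hpF : ¬ p ∣ Fintype.card F) (hx : x ^ p = 1) (f : F[X]) {g : V ≃ₗ[F] V}
    (h : g * x = x * g) : V ≃ₗ[F] V :=
  LinearEquiv.ofLinearMap (el g * (1 - pr p x f) + pr p x f) (el g⁻¹ * (1 - pr p x f) + pr p x f)
    (by
      ext v
      have h1 := pr_comm (p := p) (f := f) h
      have h2 := pr_comm (p := p) (f := f) (comm_inv h)
      simp only [LinearMap.comp_apply, LinearMap.add_apply, Module.End.mul_apply, LinearMap.sub_apply,
        Module.End.one_apply, LinearMap.id_apply, map_add, map_sub, el_apply, pr_pr hp hpF hx, h1, h2]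
      simp only [← LinearEquiv.mul_apply, mul_inv_cancel, one_app]
      abel)
    (by
      ext v
      have h1 := pr_comm (p := p) (f := f) h
      have h2 := pr_comm (p := p) (f := f) (comm_inv h)
      simp only [LinearMap.comp_apply, LinearMap.add_apply, Module.End.mul_apply, LinearMap.sub_apply,
        Module.End.one_apply, LinearMap.id_apply, map_add, map_sub, el_apply, pr_pr hp hpF hx, h1, h2]
      simp only [← LinearEquiv.mul_apply, inv_mul_cancel, one_app]
      abel)

variable (hp : p.Prime) (hpF : ¬ p ∣ Fintype.card F) (hx : x ^ p = 1) {g : V ≃ₗ[F] V} (h : g * x = x * g)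

theorem bl_apply (v : V) : bl hp hpF hx f h v = g (v - pr p x f v) + pr p x f v := rfl

theorem bl_ker {v : V} (hv : aeval (el x) f v = 0) : bl hp hpF hx f h v = g v := by
  rw [bl_apply, pr_ker hp hv, sub_zero, add_zero]

theorem bl_range (v : V) : bl hp hpF hx f h (aeval (el x) f v) = aeval (el x) f v := by
  rw [bl_apply, pr_range hp hpF hx, sub_self, map_zero, zero_add]

variable {B : V →ₗ[F] V →ₗ[F] F} {G : Subgroup (V ≃ₗ[F] V)}

omit [Fintype F] in
theorem orth (hG : Spl B G) (hxG : x ∈ G) (hf : ∀ u, aeval (el x) f u = 0 → aeval (el x⁻¹) f u = 0) {u : V}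
    (hu : aeval (el x) f u = 0) (w : V) : B u (aeval (el x) f w) = 0 := by
  apply hG.comm_zero
  rw [adj hG hxG, hf u hu, map_zero]

theorem bl_mem (hG : Spl B G) (hxG : x ∈ G) (hgG : g ∈ G)
    (hf : ∀ u, aeval (el x) f u = 0 → aeval (el x⁻¹) f u = 0) : bl hp hpF hx f h ∈ G := by
  refine hG.split g hgG _ (LinearMap.ker (aeval (el x) f)) (LinearMap.range (aeval (el x) f))
    (ker_sup_range (two_le_NN (F := F) hp) (frob hp hpF hx f)) ?_ ?_ ?_ ?_
  · rintro u hu _ ⟨w, rfl⟩
    exact orth hG hxG hf hu w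
  · intro u hu
    rw [LinearMap.mem_ker] at hu ⊢
    rw [← comm_aeval h, hu, map_zero]
  · intro u hu
    exact bl_ker hp hpF hx h hu
  · rintro _ ⟨w, rfl⟩
    exact bl_range hp hpF hx h w

end pr

section hom

variable {F V : Type*} [Field F] [Fintype F] [AddCommGroup V] [Module F V] {p : ℕ} {K : Type*} [Field K] [Algebra F K]
  [FiniteDimensional F K] {ζ : K} {x : V ≃ₗ[F] V}

/-- homogeneous elements -/
def Hg (p : ℕ) (ζ : K) (x : V ≃ₗ[F] V) : Prop := ∀ v, aeval (el x) (fz F p ζ) (x v - v) = 0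

omit [Fintype F] [FiniteDimensional F K] in
theorem inv_eq_pow (hp : p.Prime) (hx : x ^ p = 1) : x⁻¹ = x ^ (p - 1) := by
  rw [inv_eq_iff_mul_eq_one, ← pow_succ', Nat.sub_add_cancel hp.one_lt.le, hx]

omit [Fintype F] [FiniteDimensional F K] in
theorem fz_inv (hp : p.Prime) (hx : x ^ p = 1) : aeval (el x⁻¹) (fz F p ζ) = aeval (el x) (fz F p ζ) := by
  have hx' : (x⁻¹) ^ p = 1 := by rw [inv_pow, hx, inv_one]
  rw [aeval_fz, aeval_fz, ← map_pow, ← map_pow, ← inv_eq_pow hp hx, ← inv_eq_pow hp hx', inv_inv, add_comm]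

variable (hp : p.Prime) (h2 : 2 < p) (hpF : ¬ p ∣ Fintype.card F) (hζ : IsPrimitiveRoot ζ p)

omit [Field F] in
include hp hpF in
theorem q_ne : (Fintype.card F : ZMod p) ≠ 0 := by
  have : Fact p.Prime := ⟨hp⟩
  rwa [Ne, ZMod.natCast_eq_zero_iff]

include hp hpF hζ in
theorem fz_one : (fz F p ζ).eval 1 ≠ 0 := by
  have : Fact p.Prime := ⟨hp⟩
  intro h
  have h1 : aeval (ζ ^ 0) (fz F p ζ) = 0 := by
    rw [pow_zero, ← map_one (algebraMap F K), aeval_algebraMap_apply, ← Polynomial.coe_aeval_eq_eval] at *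
    rw [h, map_zero]
  rw [root_fz hp hζ] at h1
  obtain ⟨j, hj | hj⟩ := h1
  · rw [Nat.cast_zero] at hj
    exact pow_ne_zero j (q_ne hp hpF) hj.symm
  · rw [Nat.cast_zero, eq_comm, neg_eq_zero] at hj
    exact pow_ne_zero j (q_ne hp hpF) hj

include hp hpF in
theorem p_ne : (p : F) ≠ 0 := by
  intro h
  obtain ⟨r, hr⟩ := CharP.exists F
  obtain ⟨n, hr1, hn⟩ := FiniteField.card F r
  have h1 : r ∣ p := (CharP.cast_eq_zero_iff F r p).1 h
  have h2 : r = p := (Nat.prime_dvd_prime_iff_eq hr1 hp).1 h1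
  apply hpF
  rw [hn, h2]
  exact dvd_pow_self p n.pos.ne'

omit [FiniteDimensional F K] in
include hp hpF hζ in
/-- a power has the eigenvalue `ζ` -/
theorem eig (hx : x ^ p = 1) (hx1 : x ≠ 1) :
    ∃ i : ℕ, ¬ p ∣ i ∧ ∃ v, v ≠ 0 ∧ aeval (el (x ^ i)) (fz F p ζ) v = 0 := by
  have : Fact p.Prime := ⟨hp⟩
  obtain ⟨v, hv⟩ : ∃ v, x v ≠ v := by
    by_contra h
    push Not at h
    exact hx1 (LinearEquiv.ext h)
  obtain ⟨k, hk⟩ := exists_root hp hζ (el_pow hx) (sub_ne_zero.2 hv)
  -- `p ∤ k`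
  have hpk : ¬ p ∣ k := by
    intro hd
    have h1 : aeval (el x) (∑ i ∈ Finset.range p, (X : F[X]) ^ i) (x v - v) = 0 := by
      have h3 : (x v - v) = (aeval (el x) (X - 1 : F[X])) v := by
        rw [map_sub, aeval_X, map_one]
        rfl
      rw [h3, ← Module.End.mul_apply, ← map_mul, geom_sum_mul, map_sub, map_pow, aeval_X, map_one, el_pow hx, sub_self,
        LinearMap.zero_apply]
    have h4 := hk _ h1
    have h5 : ζ ^ k = 1 := (hζ.pow_eq_one_iff_dvd k).2 hd
    rw [h5, map_sum] at h4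
    simp only [map_pow, aeval_X, one_pow, Finset.sum_const, Finset.card_range, nsmul_eq_mul, mul_one] at h4
    have h6 := p_ne (F := F) hp hpF
    apply h6
    have h7 : algebraMap F K (p : F) = 0 := by rw [map_natCast]; exact h4
    exact (map_eq_zero_iff _ (algebraMap F K).injective).1 h7
  -- the inverse of `k`
  have hk0 : (k : ZMod p) ≠ 0 := by rwa [Ne, ZMod.natCast_eq_zero_iff]
  obtain ⟨i, hi⟩ : ∃ i : ℕ, (i : ZMod p) = (k : ZMod p)⁻¹ := ⟨((k : ZMod p)⁻¹).val, by rw [ZMod.natCast_val, ZMod.cast_id]⟩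
  have hki : (((k * i : ℕ)) : ZMod p) = 1 := by rw [Nat.cast_mul, hi, mul_inv_cancel₀ hk0]
  have hpi : ¬ p ∣ i := by
    intro hd
    rw [(ZMod.natCast_eq_zero_iff _ _).2 (Dvd.dvd.mul_left hd k)] at hki
    exact zero_ne_one hki
  refine ⟨i, hpi, ?_⟩
  by_contra hno
  push Not at hno
  -- the polynomial
  have hxi : (x ^ i) ^ p = 1 := by rw [← pow_mul, mul_comm, pow_mul, hx, one_pow]
  have h1 : ∀ u, aeval (el (x ^ i)) (fz F p ζ) u = 0 → u = 0 := by
    intro u hu
    by_contra h0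
    exact hno u h0 hu
  have h3 : aeval (el x) (expand F i ((fz F p ζ) ^ (Fintype.card F ^ (p - 1) - 1)) - 1) (x v - v) = 0 := by
    have h4 := h1 _ (ker_pr (f := fz F p ζ) hp hpF hxi (x v - v))
    generalize x v - v = u at h4
    rw [map_sub, LinearMap.sub_apply, expand_aeval, ← map_pow]
    rw [map_one, Module.End.one_apply]
    rw [sub_eq_zero] at h4 ⊢
    exact h4.symm
  have h4 := hk _ h3
  have h5 : ζ ^ (k * i) = ζ := by
    have h6 : k * i ≡ 1 [MOD p] := by
      rw [← ZMod.natCast_eq_natCast_iff, hki, Nat.cast_one]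
    have hz0 : ζ ≠ 0 := hζ.ne_zero hp.ne_zero
    have hu : IsPrimitiveRoot (Units.mk0 ζ hz0) p := IsPrimitiveRoot.coe_units_iff.1 hζ
    have h7 : (Units.mk0 ζ hz0) ^ (k * i) = (Units.mk0 ζ hz0) ^ 1 := by
      rw [pow_eq_pow_iff_modEq, ← hu.eq_orderOf]
      exact h6
    have h8 := congrArg Units.val h7
    simpa using h8
  rw [map_sub, expand_aeval, map_pow, map_one, ← pow_mul, h5, aeval_fz_self, zero_pow, zero_sub, neg_eq_zero] at h4
  · exact one_ne_zero h4
  · have := two_le_NN (F := F) hp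
    omega

include hp hpF hζ in
/-- the fusion of a homogeneous element -/
theorem fusion (hx : x ^ p = 1) (hx1 : x ≠ 1) (hh : Hg p ζ x) {g : V ≃ₗ[F] V} {i : ℕ} (hg : g * x * g⁻¹ = x ^ i) :
    ∃ j : ℕ, (i : ZMod p) = (Fintype.card F : ZMod p) ^ j ∨ (i : ZMod p) = -(Fintype.card F : ZMod p) ^ j := by
  have : Fact p.Prime := ⟨hp⟩
  obtain ⟨v, hv⟩ : ∃ v, x v ≠ v := by
    by_contra h
    push Not at h
    exact hx1 (LinearEquiv.ext h)
  obtain ⟨k, hk⟩ := exists_root hp hζ (el_pow hx) (sub_ne_zero.2 hv)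
  have h1 := (root_fz hp hζ).1 (hk _ (hh v))
  have hq := q_ne (F := F) hp hpF
  have hxi : Hg p ζ (x ^ i) := by
    intro w
    rw [← hg, aeval_conj]
    have h3 : g⁻¹ ((g * x * g⁻¹) w - w) = x (g⁻¹ w) - g⁻¹ w := by
      rw [map_sub, ← LinearEquiv.mul_apply, ← LinearEquiv.mul_apply]
      congr 2
      group
    rw [h3, hh, map_zero]
  have h3 : aeval (el x) (expand F i (fz F p ζ) * (X ^ i - 1)) (x v - v) = 0 := by
    have h4 := hxi (x v - v)
    generalize x v - v = u at h4
    rw [map_mul, Module.End.mul_apply, expand_aeval, ← map_pow]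
    have h5 : aeval (el x) (X ^ i - 1 : F[X]) u = (x ^ i) u - u := by
      rw [map_sub, map_pow, aeval_X, map_one, LinearMap.sub_apply, Module.End.one_apply, ← map_pow]
      rfl
    rw [h5]
    exact h4
  have h4 := hk _ h3
  rw [map_mul, expand_aeval, ← pow_mul] at h4
  have hk0 : (k : ZMod p) ≠ 0 := by
    obtain ⟨j, hj | hj⟩ := h1
    · rw [hj]; exact pow_ne_zero _ hq
    · rw [hj]; exact neg_ne_zero.2 (pow_ne_zero _ hq)
  have hi0 : (i : ZMod p) ≠ 0 := by
    rw [Ne, ZMod.natCast_eq_zero_iff]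
    rintro ⟨c, rfl⟩
    rw [pow_mul, hx, one_pow, mul_inv_eq_one, mul_eq_left] at hg
    exact hx1 hg
  have h5 : aeval (ζ ^ (k * i)) (fz F p ζ) = 0 := by
    refine (mul_eq_zero.1 h4).resolve_right ?_
    rw [map_sub, map_pow, aeval_X, map_one, ← pow_mul, sub_eq_zero, hζ.pow_eq_one_iff_dvd, ← ZMod.natCast_eq_zero_iff,
      Nat.cast_mul]
    exact mul_ne_zero hk0 hi0
  have h6 := (root_fz hp hζ).1 h5
  rw [Nat.cast_mul] at h6
  -- the group generated by `q` and `-1`
  have h7 : ∀ j : ℕ, ∃ j' : ℕ, ((Fintype.card F : ZMod p) ^ j)⁻¹ = (Fintype.card F : ZMod p) ^ j' := by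
    intro j
    refine ⟨j * (p - 2), ?_⟩
    have h8 := ZMod.pow_card_sub_one_eq_one (pow_ne_zero j hq)
    rw [inv_eq_of_mul_eq_one_left]
    rw [pow_mul, ← pow_succ, (show p - 2 + 1 = p - 1 by have := hp.two_le; omega), h8]
  obtain ⟨a, ha⟩ := h1
  obtain ⟨b, hb⟩ := h6
  obtain ⟨a', ha'⟩ := h7 a
  have h8 : (i : ZMod p) = (k : ZMod p) * i * (k : ZMod p)⁻¹ := by field_simp
  have h9 : (k : ZMod p)⁻¹ = (Fintype.card F : ZMod p) ^ a' ∨ (k : ZMod p)⁻¹ = -(Fintype.card F : ZMod p) ^ a' := by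
    rcases ha with h | h
    · left; rw [h, ha']
    · right; rw [h, ← neg_inv, ha']
  refine ⟨b + a', ?_⟩
  rw [h8, pow_add]
  rcases hb with h | h <;> rcases h9 with h' | h' <;> rw [h, h']
  · left; ring
  · right; ring
  · right; ring
  · left; ring

end hom

end Cfsg.Agent.H418.KB
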